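import Cfsg.Agent.SuzEleven.Norm
import Cfsg.Agent.Golay.M11Fusion
import Cfsg.Agent.SmallSimple.M11Uniq.Main
import Cfsg.Agent.PermSimple.Sharp

/-!
The quotient of the normaliser of the subgroup of order `3 ^ 5` is `M₁₁`, and the Sylow 3-subgroup of
the normaliser of the element of order three is one of the whole group.
-/

set_option autoImplicit false
set_option linter.style.haveILetI false
set_option maxRecDepth 100000

namespace CfsgLib.SuzEleven

open CfsgLib CfsgLib.SuzInvol CfsgLib.U43Type CfsgLib.SuzThree Subgroup MulAction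
open Cfsg.Agent.McLU43 (K9)

local notation "PSU4" => Cfsg.PSU 4 K9 3

/-- There is no transitive group of order 3960 on eleven points. -/
theorem no_3960 {I α : Type*} [Group I] [Finite I] [MulAction I α] [Finite α] [FaithfulSMul I α]
    [IsPretransitive I α] (hI : Nat.card I = 3960) (hα : Nat.card α = 11) : False := by
  haveI : Fact (Nat.Prime 11) := ⟨by norm_num⟩
  obtain ⟨P⟩ : Nonempty (Sylow 11 I) := inferInstance
  have hcard : Nat.card I = 11 * 360 := by rw [hI]
  have hP : Nat.card (P : Subgroup I) = 11 := by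
    rw [P.card_eq_multiplicity, hcard, Nat.factorization_mul (by norm_num) (by norm_num),
      Finsupp.add_apply, Nat.Prime.factorization_self Fact.out,
      Nat.factorization_eq_zero_of_not_dvd (by norm_num)]
    rfl
  have hb := PermSimple.normalizer_card_dvd (P : Subgroup I) hP
  rw [PermSimple.centralizer_eq_of_card (α := α) hP hα, hP] at hb
  obtain ⟨-, hN, -⟩ := PermSimple.normalizer_card_eq hcard (by norm_num) (v := 0) (by norm_num)
    (by decide +kernel) P hb
  exact Nat.card_pos.ne' hN

variable {G : Type*} [Group G] [Finite G] {z : G} {D : Dat z} {y : G}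
variable {T : Three D y} {π : cX y →* PSU4}

/-- The subgroups generated by conjugates inside the abelian subgroup. -/
abbrev Line (y : G) (A : Subgroup G) : Type _ :=
  {H : Subgroup G // ∃ g, g ∈ A ∧ IsA y g ∧ H = zpowers g}

omit [Finite G] in
theorem zpowers_conj (n g : G) :
    (zpowers g).map (MulAut.conj n).toMonoidHom = zpowers (n * g * n⁻¹) := by
  rw [MonoidHom.map_zpowers]; rfl

variable (P : Pi T π)
include P

set_option maxHeartbeats 1000000 in
theorem Pi.quotient_m11 [hN : ((cA π).subgroupOf (normalizer (cA π : Set G))).Normal] :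
    Cfsg.Spor.IsoM11 (↥(normalizer (cA π : Set G)) ⧸ (cA π).subgroupOf (normalizer (cA π : Set G))) := by
  classical
  set A := cA π with hA
  set NA := normalizer (A : Set G) with hNA
  set A' := A.subgroupOf NA with hA'
  obtain ⟨gl, hgl, hcases⟩ := P.exists_lines
  letI inst : MulAction NA (Line y A) :=
    { smul := fun n H => ⟨H.1.map (MulAut.conj (n : G)).toMonoidHom, by
        obtain ⟨g, hg, hgA, hH⟩ := H.2
        exact ⟨(n : G) * g * (n : G)⁻¹, (mem_normalizer_iff.1 n.2 g).1 hg, hgA.conj _,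
          by rw [hH, zpowers_conj]⟩⟩
      one_smul := fun H => Subtype.ext (by
        show H.1.map (MulAut.conj ((1 : NA) : G)).toMonoidHom = H.1
        ext x; simp)
      mul_smul := fun a b H => Subtype.ext (by
        show H.1.map (MulAut.conj ((a * b : NA) : G)).toMonoidHom =
          (H.1.map (MulAut.conj (b : G)).toMonoidHom).map (MulAut.conj (a : G)).toMonoidHom
        rw [Subgroup.map_map]
        congr 1
        ext x; simp [mul_assoc]) }
  have smul_def : ∀ (n : NA) (g : G) (H : Line y A), H.1 = zpowers g →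
      (n • H).1 = zpowers ((n : G) * g * (n : G)⁻¹) := fun n g H h => by
    show H.1.map (MulAut.conj (n : G)).toMonoidHom = _
    rw [h, zpowers_conj]
  let Ly : Line y A := ⟨zpowers y, y, P.y_cA, IsA.refl, rfl⟩
  let Li : Fin 10 → Line y A := fun i => ⟨zpowers (gl i : G), gl i, (hgl i).2.2, (hgl i).1, rfl⟩
  let F : Option (Fin 10) → Line y A := fun o => o.elim Ly Li
  have hF : Function.Bijective F := by
    have hgne : ∀ i, (gl i : G) ∉ zpowers y := fun i h => by
      have h1 := (P.ker (gl i)).2 h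
      rw [(hgl i).2.1] at h1
      exact line_facts.1 i (aEl_eq_one h1)
    refine ⟨?_, ?_⟩
    · rintro (_ | i) (_ | j) h
      · rfl
      · exact absurd (show (gl j : G) ∈ zpowers y by
          rw [show zpowers y = zpowers (gl j : G) from congrArg Subtype.val h]; exact mem_zpowers _) (hgne j)
      · exact absurd (show (gl i : G) ∈ zpowers y by
          rw [← show zpowers (gl i : G) = zpowers y from congrArg Subtype.val h]; exact mem_zpowers _) (hgne i)
      · by_contra hne
        have hij : i ≠ j := fun e => hne (congrArg some e)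
        have hm : (gl i : G) ∈ zpowers (gl j : G) := by
          rw [← show zpowers (gl i : G) = zpowers (gl j : G) from congrArg Subtype.val h]; exact mem_zpowers _
        rcases zpowers_cases (IsA.three T (hgl j).1) (fun e => hgne i (by rw [e]; exact one_mem _)) hm with e | e
        · refine (line_facts.2 i j hij).1 (aEl_inj ?_)
          rw [← (hgl i).2.1, ← (hgl j).2.1]; exact congrArg π (Subtype.ext e)
        · refine (line_facts.2 i j hij).2 (aEl_inj ?_)
          rw [aEl_neg, ← (hgl i).2.1, ← (hgl j).2.1, ← map_inv]; exact congrArg π (Subtype.ext e)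
    · rintro ⟨H, g, hg, hgA, rfl⟩
      by_cases hy : g ∈ zpowers y
      · refine ⟨none, Subtype.ext ?_⟩
        have hg1 : g ≠ 1 := fun e => by
          obtain ⟨k, hk⟩ := hgA
          exact T.ne_one (conj_eq_one_iff.1 (hk.trans e))
        rcases zpowers_cases T.three hg1 hy with e | e
        · exact congrArg zpowers e.symm
        · show zpowers y = zpowers g
          rw [e, zpowers_inv]
      · obtain ⟨i, e | e⟩ := hcases ⟨g, (mem_cA.1 hg).1⟩ hg hgA hy
        · exact ⟨some i, Subtype.ext (congrArg zpowers e.symm)⟩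
        · refine ⟨some i, Subtype.ext ?_⟩
          show zpowers (gl i : G) = zpowers g
          rw [show g = (gl i : G)⁻¹ from e, zpowers_inv]
  have hcardL : Nat.card (Line y A) = 11 := by
    rw [← Nat.card_congr (Equiv.ofBijective F hF)]; simp
  have hback : ∀ H : Line y A, ∃ n : NA, n • H = Ly := by
    rintro ⟨H, g, hg, ⟨k, rfl⟩, rfl⟩
    obtain ⟨n, hn, he⟩ := P.exists_back hg
    refine ⟨⟨n, hn⟩, Subtype.ext ?_⟩
    rw [smul_def _ (k * y * k⁻¹) _ rfl]
    exact congrArg zpowers he
  haveI : IsPretransitive NA (Line y A) := ⟨fun H H' => by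
    obtain ⟨n, hn⟩ := hback H
    obtain ⟨n', hn'⟩ := hback H'
    exact ⟨n'⁻¹ * n, by rw [mul_smul, hn, ← hn', inv_smul_smul]⟩⟩
  have hstab : stabilizer NA Ly = (normalizer ((zpowers y : Subgroup G) : Set G)).subgroupOf NA := by
    ext n
    rw [mem_stabilizer_iff, mem_subgroupOf, P.mem_normalizer_y, Subtype.ext_iff, smul_def n y Ly rfl]
    constructor
    · intro h
      refine zpowers_cases T.three (fun e => T.ne_one (conj_eq_one_iff.1 e)) ?_
      rw [← show zpowers ((n : G) * y * (n : G)⁻¹) = zpowers y from h]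
      exact mem_zpowers _
    · rintro (h | h) <;> show zpowers _ = zpowers y <;> rw [h]
      rw [zpowers_inv]
  have hcardN : Nat.card NA = 1924560 := by
    have h := card_mul_index (stabilizer NA Ly)
    have hc : Nat.card (stabilizer NA Ly) = 174960 := by
      rw [hstab, show Nat.card ↥((normalizer ((zpowers y : Subgroup G) : Set G)).subgroupOf NA) =
          Nat.card ↥(NA ⊓ normalizer ((zpowers y : Subgroup G) : Set G)) from ?_, P.card_stab]
      rw [← card_map_of_injective NA.subtype_injective, subgroupOf_map_subtype, inf_comm]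
    rw [index_stabilizer_of_transitive, hcardL, hc] at h
    omega
  have hcardA : Nat.card A' = 243 := by
    rw [hA', Nat.card_congr (subgroupOfEquivOfLe le_normalizer).toEquiv, P.card_cA]
  have hcardM : Nat.card (NA ⧸ A') = 7920 := by
    have h := card_eq_card_quotient_mul_card_subgroup A'
    rw [hcardA, hcardN] at h
    omega
  let ρ : NA →* Equiv.Perm (Line y A) := MulAction.toPermHom NA (Line y A)
  have hρA : A' ≤ ρ.ker := by
    intro a ha
    rw [MonoidHom.mem_ker]
    refine Equiv.ext fun H => ?_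
    obtain ⟨H, g, hg, hgA, rfl⟩ := H
    refine Subtype.ext ?_
    show (a • (⟨zpowers g, _⟩ : Line y A)).1 = zpowers g
    rw [smul_def a g _ rfl, P.abelian (mem_subgroupOf.1 ha) hg, mul_inv_cancel_right]
  let ρ' := QuotientGroup.lift A' ρ hρA
  have hkey : ∀ n : NA, (n : G) * y * (n : G)⁻¹ = y → ρ n = 1 → n ∈ A' := by
    intro n hny hn
    rw [hA', mem_subgroupOf, mem_cA]
    have hnX : (n : G) ∈ cX y := mem_cX.2 (mul_inv_eq_iff_eq_mul.1 hny)
    have hnN : π ⟨n, hnX⟩ ∈ normalizer (Abar : Set PSU4) := by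
      have hm : (n : G) ∈ cX y ⊓ normalizer (A : Set G) := ⟨hnX, n.2⟩
      rw [hA, P.normalizer_inf] at hm
      obtain ⟨x, hx, hxe⟩ := hm
      rw [show (⟨n, hnX⟩ : cX y) = x from Subtype.ext hxe.symm]
      exact hx
    refine ⟨hnX, mem_Abar_of_fix hnN fun i => ?_⟩
    have h1 : n • Li i = Li i := Equiv.congr_fun hn (Li i)
    have h2 := congrArg Subtype.val h1
    rw [smul_def n (gl i) (Li i) rfl] at h2
    have hm : (n : G) * gl i * (n : G)⁻¹ ∈ zpowers (gl i : G) := by
      rw [← show zpowers ((n : G) * gl i * (n : G)⁻¹) = zpowers (gl i : G) from h2]; exact mem_zpowers _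
    have hne : (n : G) * gl i * (n : G)⁻¹ ≠ 1 := fun e => by
      have h0 : π (gl i) = 1 := by
        rw [show gl i = 1 from Subtype.ext (conj_eq_one_iff.1 e), map_one]
      rw [(hgl i).2.1] at h0
      exact line_facts.1 i (aEl_eq_one h0)
    rw [aEl_neg, ← (hgl i).2.1, ← map_inv, ← map_mul, ← map_mul, ← map_inv]
    refine (zpowers_cases (IsA.three T (hgl i).1) hne hm).imp (fun e => ?_) (fun e => ?_)
    · exact congrArg π (Subtype.ext e)
    · exact congrArg π (Subtype.ext e)
  have hker2 : ∀ a ∈ ρ'.ker, ∀ b ∈ ρ'.ker, a ≠ 1 → b ≠ 1 → a = b := by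
    intro a ha b hb ha1 hb1
    obtain ⟨a, rfl⟩ := QuotientGroup.mk_surjective a
    obtain ⟨b, rfl⟩ := QuotientGroup.mk_surjective b
    have ha' : ρ a = 1 := ha
    have hb' : ρ b = 1 := hb
    have hflip : ∀ n : NA, ρ n = 1 → n ∉ A' → (n : G) * y * (n : G)⁻¹ = y⁻¹ := by
      intro n hn hnA
      have hs : n ∈ stabilizer NA Ly := mem_stabilizer_iff.2 (Equiv.congr_fun hn Ly)
      rw [hstab, mem_subgroupOf] at hs
      exact (P.mem_normalizer_y.1 hs).resolve_left fun h => hnA (hkey n h hn)
    have fa := hflip a ha' (fun h => ha1 ((QuotientGroup.eq_one_iff a).2 h))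
    have fb := hflip b hb' (fun h => hb1 ((QuotientGroup.eq_one_iff b).2 h))
    refine QuotientGroup.eq.2 (hkey _ ?_ (by rw [map_mul, map_inv, ha', hb', inv_one, one_mul]))
    show (a : G)⁻¹ * (b : G) * y * ((a : G)⁻¹ * (b : G))⁻¹ = y
    calc (a : G)⁻¹ * (b : G) * y * ((a : G)⁻¹ * (b : G))⁻¹ = (a : G)⁻¹ * ((b : G) * y * (b : G)⁻¹) * a := by group
      _ = (a : G)⁻¹ * ((a : G) * y * (a : G)⁻¹) * a := by rw [fa, fb]
      _ = y := by group
  have hinj : Function.Injective ρ' := by
    rw [← MonoidHom.ker_eq_bot_iff]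
    by_contra hne
    obtain ⟨k, hk, hk1⟩ := (ρ'.ker).ne_bot_iff_exists_ne_one.1 hne |> fun ⟨x, hx⟩ =>
      (⟨x.1, x.2, fun e => hx (Subtype.ext e)⟩ : ∃ q, q ∈ ρ'.ker ∧ q ≠ 1)
    have hset : (ρ'.ker : Set _) = {1, k} := by
      ext x
      simp only [SetLike.mem_coe, Set.mem_insert_iff, Set.mem_singleton_iff]
      refine ⟨fun hx => or_iff_not_imp_left.2 fun hx1 => hker2 x hx k hk hx1 hk1, ?_⟩
      rintro (rfl | rfl)
      · exact one_mem _
      · exact hk
    have hc2 : Nat.card ρ'.ker = 2 := by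
      rw [← SetLike.coe_sort_coe, Nat.card_coe_set_eq, hset, Set.ncard_pair hk1.symm]
    have hI : Nat.card ρ'.range = 3960 := by
      have h := card_eq_card_quotient_mul_card_subgroup ρ'.ker
      rw [Nat.card_congr (QuotientGroup.quotientKerEquivRange ρ').toEquiv, hc2, hcardM] at h
      omega
    haveI : IsPretransitive ρ'.range (Line y A) := ⟨fun H H' => by
      obtain ⟨n, hn⟩ := exists_smul_eq NA H H'
      exact ⟨⟨ρ n, ⟨(n : NA ⧸ A'), rfl⟩⟩, hn⟩⟩
    exact no_3960 (I := ρ'.range) (α := Line y A) hI hcardL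
  letI : MulAction (NA ⧸ A') (Line y A) := MulAction.compHom _ ρ'
  haveI : FaithfulSMul (NA ⧸ A') (Line y A) := ⟨fun {a b} h => hinj (Equiv.ext h)⟩
  haveI : IsPretransitive (NA ⧸ A') (Line y A) := ⟨fun H H' => by
    obtain ⟨n, hn⟩ := exists_smul_eq NA H H'
    exact ⟨(n : NA ⧸ A'), hn⟩⟩
  haveI := PermSimple.isSimpleGroup_7920 (α := Line y A) hcardM hcardL
  haveI := CfsgLib.Golay.isSimple_M11
  exact CfsgLib.M11Uniq.nonempty_equiv (H := Cfsg.Spor.M11) CfsgLib.Golay.card_M11 hcardM

/-- A subgroup containing the preimage of the Sylow subgroup with index three does not exist. -/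
theorem Pi.not_dvd_index : ¬ 3 ∣ (cS π).index := by
  haveI : Fact (Nat.Prime 3) := ⟨Nat.prime_three⟩
  intro hdvd
  set S := cS π with hS
  have hcard : Nat.card S = 3 ^ 7 := by rw [hS, P.card_cS]; norm_num
  obtain ⟨K, hK, hle⟩ := Sylow.exists_subgroup_card_pow_succ (n := 7) (by
    rw [← card_mul_index S, hcard, pow_succ]
    exact mul_dvd_mul_left _ hdvd) hcard
  have hidx : (S.subgroupOf K).index = 3 := by
    have h := card_mul_index (S.subgroupOf K)
    rw [Nat.card_congr (subgroupOfEquivOfLe hle).toEquiv, hcard, hK] at h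
    omega
  haveI hn : (S.subgroupOf K).Normal := normal_of_index_eq_minFac_card (by
    rw [hidx, hK, Nat.Prime.pow_minFac Nat.prime_three (by norm_num)])
  have hNA : K ≤ normalizer (cA π : Set G) := by
    intro k hk
    set f := (MulAut.conj k).toMonoidHom with hf
    have hES : (cA π).map f ≤ S := by
      rintro _ ⟨a, ha, rfl⟩
      have := hn.conj_mem ⟨a, hle (cA_le_cS ha)⟩ (mem_subgroupOf.2 (cA_le_cS ha)) ⟨k, hk⟩
      exact mem_subgroupOf.1 this
    have hEX : (cA π).map f ≤ cX y := fun x hx => (mem_cS.1 (hES hx)).1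
    set E := ((cA π).map f).subgroupOf (cX y) with hE
    have hEcard : Nat.card E = 243 := by
      rw [hE, Nat.card_congr (subgroupOfEquivOfLe hEX).toEquiv,
        card_map_of_injective (MulAut.conj k).injective, P.card_cA]
    have h81 : 81 ≤ Nat.card (E.map π) := by
      have h1 : (E.map π) = (π.comp E.subtype).range := by
        rw [MonoidHom.range_comp, Subgroup.range_subtype]
      have h := card_eq_card_quotient_mul_card_subgroup (π.comp E.subtype).ker
      rw [Nat.card_congr (QuotientGroup.quotientKerEquivRange (π.comp E.subtype)).toEquiv, ← h1, hEcard] at h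
      have hle3 : Nat.card (π.comp E.subtype).ker ≤ 3 := by
        refine le_trans ?_ P.card_ker.le
        exact Nat.card_le_card_of_injective (fun x => (⟨x.1.1, x.2⟩ : π.ker)) fun a b e =>
          Subtype.ext (Subtype.ext (congrArg (fun t : π.ker => (t : cX y)) e))
      nlinarith
    have hEq : E.map π = Abar := by
      refine abelian_le ?_ ?_ h81
      · rintro _ ⟨x, hx, rfl⟩
        obtain ⟨hx', h⟩ := mem_cS.1 (hES (mem_subgroupOf.1 hx))
        exact h
      · rintro _ ⟨a, ha, rfl⟩ _ ⟨b, hb, rfl⟩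
        rw [← map_mul, ← map_mul]
        obtain ⟨a', ha', ea⟩ := mem_subgroupOf.1 ha
        obtain ⟨b', hb', eb⟩ := mem_subgroupOf.1 hb
        refine congrArg π (Subtype.ext ?_)
        show (a : G) * b = b * a
        rw [← ea, ← eb, ← map_mul, ← map_mul, P.abelian ha' hb']
    have hEA : (cA π).map f = cA π := by
      refine eq_of_le_of_card_ge (fun x hx => mem_cA.2 ⟨hEX hx, ?_⟩)
        (le_of_eq (card_map_of_injective (MulAut.conj k).injective).symm)
      rw [← hEq]
      exact ⟨⟨x, hEX hx⟩, mem_subgroupOf.2 hx, rfl⟩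
    refine mem_normalizer_iff.2 fun a => ⟨fun ha => hEA ▸ ⟨a, ha, rfl⟩, fun ha => ?_⟩
    rw [← hEA] at ha
    obtain ⟨b, hb, e⟩ := ha
    obtain rfl : b = a := (MulAut.conj k).injective e
    exact hb
  haveI : ((cA π).subgroupOf (normalizer (cA π : Set G))).Normal := normal_in_normalizer
  obtain ⟨e⟩ := P.quotient_m11
  have hM : Nat.card (↥(normalizer (cA π : Set G)) ⧸ (cA π).subgroupOf (normalizer (cA π : Set G))) = 7920 := by
    rw [Nat.card_congr e.toEquiv, CfsgLib.Golay.card_M11]
  have hNc : Nat.card (normalizer (cA π : Set G)) = 7920 * 243 := by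
    rw [card_eq_card_quotient_mul_card_subgroup ((cA π).subgroupOf (normalizer (cA π : Set G))), hM,
      Nat.card_congr (subgroupOfEquivOfLe le_normalizer).toEquiv, P.card_cA]
  have := card_dvd_of_le hNA
  rw [hK, hNc] at this
  norm_num at this

omit P in
/-- The map adapted to a given 3-subgroup. -/
theorem exists_pi_sylow (T : Three D y) {S : Subgroup G} (hS : S ≤ cX y) (hcard : Nat.card S = 2187) :
    ∃ π : cX y →* PSU4, Pi T π ∧ cS π = S := by
  haveI : Fact (Nat.Prime 3) := ⟨Nat.prime_three⟩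
  obtain ⟨π₀, P₀⟩ := exists_pi T
  obtain ⟨S₀, hS₀⟩ := exists_sylow
  have hp : IsPGroup 3 ((S.subgroupOf (cX y)).map π₀) :=
    (IsPGroup.of_card (n := 7) (by
      rw [Nat.card_congr (subgroupOfEquivOfLe hS).toEquiv, hcard]; norm_num)).map π₀
  obtain ⟨S₁, hS₁⟩ := hp.exists_le_sylow
  obtain ⟨d, hd⟩ := MulAction.exists_smul_eq PSU4 S₁ S₀
  have P := P₀.transform d
  refine ⟨_, P, (eq_of_le_of_card_ge (fun x hx => mem_cS.2 ⟨hS hx, ?_⟩) ?_).symm⟩
  · rw [← hS₀, ← hd]
    exact ⟨π₀ ⟨x, hS hx⟩, hS₁ ⟨⟨x, hS hx⟩, mem_subgroupOf.2 hx, rfl⟩, rfl⟩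
  · rw [P.card_cS, hcard]

end CfsgLib.SuzEleven
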