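import Cfsg.Agent.SuzEleven.Data
import Cfsg.Agent.U43Type.Iso
import Mathlib.Order.Fin.Basic

/-!
Computations with the linear maps and the words of the normaliser of the elementary group of order 81.
-/

set_option autoImplicit false
set_option maxRecDepth 100000
set_option synthInstance.maxSize 4096
set_option synthInstance.maxHeartbeats 100000

namespace CfsgLib.SuzEleven

open CfsgLib.U43Type

/-- Multiplication by a scalar. -/
def sm (c : ZMod 3) (v : V4) : V4 := (c * v.1, c * v.2.1, c * v.2.2.1, c * v.2.2.2)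

/-- A linear map applied to a vector. -/
def lin (A : M4) (v : V4) : V4 :=
  sm v.1 A.1 + sm v.2.1 A.2.1 + sm v.2.2.1 A.2.2.1 + sm v.2.2.2 A.2.2.2

/-- The unit vectors. -/
def unitV (k : Fin 4) : V4 :=
  match k.val with
  | 0 => (1, 0, 0, 0)
  | 1 => (0, 1, 0, 0)
  | 2 => (0, 0, 1, 0)
  | _ => (0, 0, 0, 1)

/-- The identity. -/
def oneM : M4 := ((1, 0, 0, 0), (0, 1, 0, 0), (0, 0, 1, 0), (0, 0, 0, 1))

/-- Composition. -/
def compM (A B : M4) : M4 := (lin A B.1, lin A B.2.1, lin A B.2.2.1, lin A B.2.2.2)

/-- The matrix of a generator. -/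
def gM (l : Nat) : M4 := genM.getD l oneM

/-- The word of a generator. -/
def gW (l : Nat) : List Nat := genW.getD l []

/-- The matrix of a word in the generators. -/
def matL (w : List Nat) : M4 := w.foldr (fun l A => compM (gM l) A) oneM

/-- The word of a word in the generators. -/
def wordL (w : List Nat) : List Nat := (w.map gW).flatten

/-- The transversal, as words. -/
def repG (k : Fin 360) : List Nat := repL.getD k.val []

/-- The transversal, as matrices. -/
def repM (k : Fin 360) : M4 := matL (repG k)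

/-- The code of a vector. -/
def vCode (v : V4) : Nat := v.1.val + 3 * v.2.1.val + 9 * v.2.2.1.val + 27 * v.2.2.2.val

/-- The code of a linear map. -/
def mCode (A : M4) : Nat := vCode A.1 + 81 * vCode A.2.1 + 81 ^ 2 * vCode A.2.2.1 + 81 ^ 3 * vCode A.2.2.2

/-- The nine elements of a Sylow subgroup. -/
def nineK (i : Fin 9) : Fin 360 := Fin.ofNat 360 (nineL.getD i.val 0)

/-- The representatives of the ten lines. -/
def tenK (i : Fin 10) : Fin 360 := Fin.ofNat 360 (tenL.getD i.val 0)

/-- A vector spanning a line of transvections. -/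
def lineV (i : Fin 10) : V4 := lin (repM (tenK i)) (unitV 0)

theorem rep_code : ∀ k : Fin 360, mCode (repM k) = repC.getD k.val 0 := by decide +kernel

theorem repC_lt : ∀ k : Fin 359, repC.getD k.val 0 < repC.getD (k.val + 1) 0 := by decide +kernel

theorem repM_inj : Function.Injective repM := by
  intro a b h
  have hm : StrictMono fun k : Fin 360 => repC.getD k.val 0 :=
    Fin.strictMono_iff_lt_succ.2 fun k => repC_lt k
  exact hm.injective (show repC.getD a.val 0 = repC.getD b.val 0 by rw [← rep_code, ← rep_code, h])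

theorem one_rep : ∃ k : Fin 360, repM k = oneM := ⟨⟨idIdx, by decide⟩, by decide +kernel⟩

theorem nine_facts : repM (nineK 0) = oneM ∧
    (∀ i j : Fin 9, i ≠ j → nineK i ≠ nineK j) ∧
    (∀ i j : Fin 9, ∃ l : Fin 9, compM (repM (nineK i)) (repM (nineK j)) = repM (nineK l)) := by
  decide +kernel

theorem fixed_small : ∀ i : Fin 9, i ≠ 0 →
    (Finset.univ.filter fun v : V4 => lin (repM (nineK i)) v = v).card ≤ 9 := by decide +kernel

theorem swap_facts : ∀ i j : Fin 4, ∃ k : Fin 360,
    lin (repM k) (unitV i) = unitV j ∧ lin (repM k) (unitV j) = unitV i := by decide +kernel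

theorem line_facts : (∀ i : Fin 10, lineV i ≠ 0) ∧
    (∀ i j : Fin 10, i ≠ j → lineV i ≠ lineV j ∧ lineV i ≠ -lineV j) := by decide +kernel

theorem lines_faithful : ∀ k : Fin 360, (∀ i : Fin 10, lin (repM k) (lineV i) = lineV i ∨
    lin (repM k) (lineV i) = -lineV i) → repM k = oneM := by decide +kernel

theorem orbits : ∀ v : V4, v ≠ 0 → ∃ p ∈ orbL, ∃ k : Fin 360, lin (repM k) p.1 = v := by decide +kernel

/-- The word of a basis element. -/
def eW (k : Fin 4) : List Nat :=
  match k.val with
  | 0 => [2]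
  | 1 => [4, 2, 4]
  | 2 => [7, 2, 8]
  | _ => [8, 2, 7]

/-- Repetition of a word. -/
def powW (n : Nat) (w : List Nat) : List Nat := (List.replicate n w).flatten

/-- The word of a vector. -/
def aW (v : V4) : List Nat :=
  powW v.1.val (eW 0) ++ powW v.2.1.val (eW 1) ++ powW v.2.2.1.val (eW 2) ++ powW v.2.2.2.val (eW 3)

/-- The inverse word. -/
def iW (w : List Nat) : List Nat := (w.map ivX).reverse

/-- Equality of two words up to scalars. -/
def eqW (u v : List Nat) : Bool := Mats.isScal (Mats.codeW (u ++ iW v))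

theorem basis_facts : (∀ i j : Fin 4, eqW (eW i ++ eW j) (eW j ++ eW i) = true) ∧
    (∀ i : Fin 4, eqW (eW i ++ eW i ++ eW i) [] = true) ∧
    (∀ v : V4, v ≠ 0 → ∃ l : Fin 9, noncentral (aW v) l = true) := by decide +kernel

theorem gen_act : ∀ l : Fin 4, ∀ k : Fin 4,
    eqW (gW l.val ++ eW k) (aW (lin (gM l.val) (unitV k)) ++ gW l.val) = true := by decide +kernel

theorem orb_comm : ∀ p ∈ orbL,
    eqW (p.2 ++ aW p.1 ++ iW p.2 ++ [0, 0]) ([0, 0] ++ (p.2 ++ aW p.1 ++ iW p.2)) = true := by decide +kernel

/-- One entry of a scaled matrix minus the identity. -/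
def shEnt (X c : Nat) (i k : Nat) : Nat :=
  Cfsg.Agent.McLU43.fadd (Cfsg.Agent.McLU43.fmul c (Mats.ent X i k)) (if i = k then 2 else 0)

/-- Whether a multiple of the matrix differs from the identity by a matrix of rank at most one. -/
def tvC (X : Nat) : Bool :=
  (List.range 9).any fun c => (List.range 4).all fun i => (List.range 4).all fun j => (List.range 4).all fun k =>
    (List.range 4).all fun m =>
      Cfsg.Agent.McLU43.fmul (shEnt X c i k) (shEnt X c j m) ==
        Cfsg.Agent.McLU43.fmul (shEnt X c i m) (shEnt X c j k)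

theorem tv_lines : ∀ v : V4, v ≠ 0 → tvC (Mats.codeW (aW v)) = true →
    ∃ i : Fin 10, v = lineV i ∨ v = -lineV i := by decide +kernel

end CfsgLib.SuzEleven
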