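import Cfsg.Agent.SuzEleven.Transfer
import Cfsg.Prelude.Def_Transfer

/-!
The elementary abelian subgroup of order `3 ^ 5` and the conjugates of the element of order three in it.
-/

set_option autoImplicit false
set_option linter.style.haveILetI false
set_option maxRecDepth 100000

namespace CfsgLib.SuzEleven

open CfsgLib CfsgLib.SuzInvol CfsgLib.U43Type CfsgLib.SuzThree Subgroup
open Cfsg.Agent.McLU43 (K9)

local notation "PSU4" => Cfsg.PSU 4 K9 3

variable {G : Type*} [Group G] [Finite G] {z : G} {D : Dat z} {y : G}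

/-- The preimage of the subgroup of order 81. -/
noncomputable def cA (π : cX y →* PSU4) : Subgroup G := (Abar.comap π).map (cX y).subtype

/-- The preimage of the Sylow subgroup. -/
noncomputable def cS (π : cX y →* PSU4) : Subgroup G := (Pbar.comap π).map (cX y).subtype

theorem mem_cA {π : cX y →* PSU4} {x : G} : x ∈ cA π ↔ ∃ hx : x ∈ cX y, π ⟨x, hx⟩ ∈ Abar := by
  constructor
  · rintro ⟨⟨x, hx⟩, h, rfl⟩; exact ⟨hx, h⟩
  · rintro ⟨hx, h⟩; exact ⟨⟨x, hx⟩, h, rfl⟩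

theorem mem_cS {π : cX y →* PSU4} {x : G} : x ∈ cS π ↔ ∃ hx : x ∈ cX y, π ⟨x, hx⟩ ∈ Pbar := by
  constructor
  · rintro ⟨⟨x, hx⟩, h, rfl⟩; exact ⟨hx, h⟩
  · rintro ⟨hx, h⟩; exact ⟨⟨x, hx⟩, h, rfl⟩

omit [Finite G] in
theorem y_cX : y ∈ cX y := mem_cX.2 rfl

variable {T : Three D y} {π : cX y →* PSU4} (P : Pi T π)
include P

theorem Pi.map_y : π ⟨y, y_cX⟩ = 1 := (P.ker _).2 (mem_zpowers y)

theorem Pi.eq_iff {x x' : cX y} : π x = π x' ↔ ∃ e : Fin 3, (x' : G) = x * y ^ e.val := by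
  constructor
  · intro h
    have h1 : π (x⁻¹ * x') = 1 := by rw [map_mul, map_inv, h, inv_mul_cancel]
    obtain ⟨e, he⟩ := mem_zpowers_three T ((P.ker _).1 h1)
    refine ⟨e, ?_⟩
    rw [← he]
    show (x' : G) = x * ((x : G)⁻¹ * x')
    group
  · rintro ⟨e, he⟩
    have : x' = x * ⟨y, y_cX⟩ ^ e.val := Subtype.ext he
    rw [this, map_mul, map_pow, P.map_y, one_pow, mul_one]

theorem Pi.card_ker : Nat.card π.ker = 3 := by
  haveI : Fact (Nat.Prime 3) := ⟨Nat.prime_three⟩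
  have h : π.ker.map (cX y).subtype = zpowers y := by
    ext x
    constructor
    · rintro ⟨a, ha, rfl⟩; exact (P.ker a).1 ha
    · intro hx
      have hxX : x ∈ cX y := by
        obtain ⟨n, rfl⟩ := mem_zpowers_iff.1 hx
        exact zpow_mem y_cX n
      exact ⟨⟨x, hxX⟩, (P.ker _).2 hx, rfl⟩
  rw [← card_map_of_injective (cX y).subtype_injective, h, Nat.card_zpowers,
    orderOf_eq_prime T.three T.ne_one]

theorem Pi.card_cX : Nat.card (cX y) = 9797760 := by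
  rw [card_eq_card_quotient_mul_card_subgroup π.ker, P.card_ker,
    Nat.card_congr (QuotientGroup.quotientKerEquivOfSurjective π P.surj).toEquiv, card_PSU4]

theorem Pi.card_comap (H : Subgroup PSU4) :
    Nat.card ((H.comap π).map (cX y).subtype) = 3 * Nat.card H := by
  rw [card_map_of_injective (cX y).subtype_injective]
  have h1 := card_mul_index (H.comap π)
  rw [index_comap_of_surjective _ P.surj, P.card_cX] at h1
  have h2 := card_mul_index H
  rw [card_PSU4] at h2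
  have h3 : H.index ≠ 0 := index_ne_zero_of_finite
  refine Nat.eq_of_mul_eq_mul_right (Nat.pos_of_ne_zero h3) ?_
  rw [h1, mul_assoc, h2]
  norm_num

theorem Pi.card_cA : Nat.card (cA π) = 243 := by rw [cA, P.card_comap, card_Abar]

theorem Pi.card_cS : Nat.card (cS π) = 2187 := by rw [cS, P.card_comap, card_Pbar]

theorem Pi.y_cA : y ∈ cA π := mem_cA.2 ⟨y_cX, by rw [P.map_y]; exact one_mem _⟩

omit P in
theorem cA_le_cS : cA π ≤ cS π := fun x hx => by
  obtain ⟨hx', h⟩ := mem_cA.1 hx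
  exact mem_cS.2 ⟨hx', Abar_le_Pbar h⟩

omit P in
theorem cA_le_cX : cA π ≤ cX y := fun _ hx => (mem_cA.1 hx).1

/-- An element commuting with the image of the involution lies in the small centraliser. -/
theorem Pi.mem_Kc_of_comm {x : cX y} {hz : z ∈ cX y} (h : π x * π ⟨z, hz⟩ = π ⟨z, hz⟩ * π x) :
    (x : G) ∈ Kc T := by
  have h1 : π ⟨z, hz⟩ = π (x * ⟨z, hz⟩ * x⁻¹) := by
    rw [map_mul, map_mul, map_inv, h, mul_inv_cancel_right]
  obtain ⟨e, he⟩ := P.eq_iff.1 h1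
  have z128 : z ^ 128 = 1 := pow_Q D.pre.gen.mem
  have hzy : z * y = y * z := mem_cX.1 hz
  have hxz : (x : G) * z * (x : G)⁻¹ = z :=
    pow_two_part T (by rw [conj_pow, z128]; group) z128 hzy (e := e.val) he
  exact (mem_Kc T).2 ⟨mem_centralizer_singleton_iff.2 (mul_inv_eq_iff_eq_mul.1 hxz), mem_cX.1 x.2⟩

/-- A conjugate in the small centraliser is conjugate to the element there. -/
theorem Pi.conj_in_C {g : G} (hg : g ∈ Kc T) (h : IsA y g) :
    ∃ c ∈ centralizer ({z} : Set G), c * y * c⁻¹ = g := by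
  obtain ⟨k, hk⟩ := h
  have hzg : z * g = g * z := (mem_centralizer_singleton_iff.1 ((mem_Kc T).1 hg).1).symm
  have hx : k⁻¹ * z * k ∈ cX y := by
    rw [mem_cX]
    calc k⁻¹ * z * k * y = k⁻¹ * (z * (k * y * k⁻¹)) * k := by group
      _ = k⁻¹ * ((k * y * k⁻¹) * z) * k := by rw [hk, hzg]
      _ = _ := by group
  have zz : z * z = 1 := D.pre.gen.sq
  obtain ⟨c, hc, hcz⟩ := P.cls _ hx
    (by rw [show k⁻¹ * z * k * (k⁻¹ * z * k) = k⁻¹ * (z * z) * k by group, zz]; group)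
    (fun e => D.pre.gen.ne_one (by
      calc z = k * (k⁻¹ * z * k) * k⁻¹ := by group
        _ = 1 := by rw [e]; group))
  refine ⟨k * c⁻¹, ?_, ?_⟩
  · rw [mem_centralizer_singleton_iff]
    calc k * c⁻¹ * z = k * c⁻¹ * (c * (k⁻¹ * z * k) * c⁻¹) := by rw [hcz]
      _ = z * (k * c⁻¹) := by group
  · have hcy : c⁻¹ * y * c = y := by
      rw [mul_assoc, ← mem_cX.1 hc, inv_mul_cancel_left]
    calc k * c⁻¹ * y * (k * c⁻¹)⁻¹ = k * (c⁻¹ * y * c) * k⁻¹ := by group
      _ = g := by rw [hcy, hk]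

/-- Every element of the subgroup is moved into the small centraliser. -/
theorem Pi.exists_move {g : G} (hg : g ∈ cA π) : ∃ c ∈ cX y, c * g * c⁻¹ ∈ Kc T := by
  obtain ⟨hgX, v, hv⟩ := mem_cA.1 hg
  obtain ⟨hz, d, hd⟩ := P.zconj
  obtain ⟨c₀, hc₀⟩ := exists_comm v
  obtain ⟨c, hc⟩ := P.surj (d * c₀)
  refine ⟨c, c.2, P.mem_Kc_of_comm (x := c * ⟨g, hgX⟩ * c⁻¹) (hz := hz) ?_⟩
  rw [map_mul, map_mul, map_inv, hc, ← hv, hd]
  calc d * c₀ * aEl v * (d * c₀)⁻¹ * (d * pw [0, 0] * d⁻¹)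
      = d * (c₀ * aEl v * c₀⁻¹ * pw [0, 0]) * d⁻¹ := by group
    _ = d * (pw [0, 0] * (c₀ * aEl v * c₀⁻¹)) * d⁻¹ := by rw [hc₀]
    _ = _ := by group

omit [Finite G] P in
theorem not_zpowers_conj {c g : G} (hc : c ∈ cX y) (h : g ∉ zpowers y) : c * g * c⁻¹ ∉ zpowers y := by
  intro hm
  refine h ?_
  obtain ⟨n, hn⟩ := mem_zpowers_iff.1 hm
  have hcy : c⁻¹ * y * c = y := by rw [mul_assoc, ← mem_cX.1 hc, inv_mul_cancel_left]
  refine mem_zpowers_iff.2 ⟨n, ?_⟩
  calc y ^ n = (c⁻¹ * y * c) ^ n := by rw [hcy]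
    _ = c⁻¹ * y ^ n * c := by rw [show c⁻¹ * y * c = c⁻¹ * y * c⁻¹⁻¹ by group, conj_zpow]; group
    _ = g := by rw [hn]; group

/-- The conjugates outside the powers map to transvections. -/
theorem Pi.tv_of_isA {g : cX y} (hg : (g : G) ∈ cA π) (h : IsA y (g : G)) (hne : (g : G) ∉ zpowers y) :
    Tv (π g) := by
  obtain ⟨c, hc, hK⟩ := P.exists_move hg
  have hne' := not_zpowers_conj hc hne
  have hA := h.conj c
  obtain ⟨d, hd, hd'⟩ := P.conj_in_C hK hA
  obtain ⟨e, he⟩ := P.factor (⟨c, hc⟩ * g * ⟨c, hc⟩⁻¹) hK (IsA.three T hA) hne'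
    (exists_fixed_pair T hK hd hd' hne')
  have ht : Tv (π (⟨c, hc⟩ * g * ⟨c, hc⟩⁻¹)) := by
    rcases he with he | he <;> rw [he]
    · exact tv_letters.1.conj e
    · exact tv_letters.2.conj e
  have := ht.conj (π ⟨c, hc⟩)⁻¹
  rw [map_mul, map_mul, map_inv] at this
  rwa [show (π ⟨c, hc⟩)⁻¹ * (π ⟨c, hc⟩ * π g * (π ⟨c, hc⟩)⁻¹) * (π ⟨c, hc⟩)⁻¹⁻¹ = π g by group] at this

/-- Conjugates with the same image are equal. -/
theorem Pi.isA_ext {g g' : cX y} (hg : (g : G) ∈ cA π) (h : IsA y (g : G)) (h' : IsA y (g' : G))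
    (hne : π g ≠ 1) (e : π g = π g') : (g : G) = g' := by
  have hgY : (g : G) ∉ zpowers y := fun hm => hne ((P.ker g).2 hm)
  obtain ⟨c, hc, hK⟩ := P.exists_move hg
  obtain ⟨k, hk⟩ := P.eq_iff.1 e
  have hcy : c * y * c⁻¹ = y := by rw [mem_cX.1 hc, mul_inv_cancel_right]
  have hk' : c * (g' : G) * c⁻¹ = c * (g : G) * c⁻¹ * y ^ k.val := by
    rw [hk]
    calc c * ((g : G) * y ^ k.val) * c⁻¹ = (c * (g : G) * c⁻¹) * (c * y ^ k.val * c⁻¹) := by group
      _ = _ := by rw [← conj_pow, hcy]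
  have hK' : c * (g' : G) * c⁻¹ ∈ Kc T := hk' ▸ mul_mem hK (pow_mem T.y_Kc _)
  obtain ⟨d, hd, hd'⟩ := P.conj_in_C hK (h.conj c)
  obtain ⟨d₂, hd₂, hd₂'⟩ := P.conj_in_C hK' (h'.conj c)
  have h0 := eq_of_coset T hK hd hd' (not_zpowers_conj hc hgY) hd₂ (hd₂'.trans hk')
  rw [hk, h0, Fin.val_zero, pow_zero, mul_one]

/-- A conjugate over the first basis vector. -/
theorem Pi.exists_first : ∃ g : cX y, IsA y (g : G) ∧ π g = aEl (unitV 0) := by
  obtain ⟨h, hK, hA, hne⟩ := exists_outside T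
  have hX : h ∈ cX y := mem_cX.2 ((mem_Kc T).1 hK).2
  obtain ⟨d, hd, hd'⟩ := P.conj_in_C hK hA
  obtain ⟨c, hc⟩ := P.factor ⟨h, hX⟩ hK (IsA.three T hA) hne (exists_fixed_pair T hK hd hd' hne)
  obtain ⟨c, rfl⟩ := P.surj c
  have h2 : pw [2] = aEl (unitV 0) := by rw [aEl_unit]; rfl
  have h3 : pw [3] = (aEl (unitV 0))⁻¹ := by rw [← h2, ← pw_iW]; rfl
  rcases hc with hc | hc
  · refine ⟨c⁻¹ * ⟨h, hX⟩ * c, ?_, ?_⟩
    · have := hA.conj ((c : G))⁻¹
      rwa [inv_inv] at this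
    · rw [map_mul, map_mul, map_inv, hc, h2]; group
  · refine ⟨c⁻¹ * ⟨h, hX⟩⁻¹ * c, ?_, ?_⟩
    · have := (hA.inv T).conj ((c : G))⁻¹
      rwa [inv_inv] at this
    · rw [map_mul, map_mul, map_inv, map_inv, hc, h3]; group

theorem Pi.exists_orbit (k : Fin 360) :
    ∃ g : cX y, IsA y (g : G) ∧ π g = aEl (lin (repM k) (unitV 0)) := by
  obtain ⟨g, hA, hg⟩ := P.exists_first
  obtain ⟨n, hn⟩ := P.surj (rep k)
  refine ⟨n * g * n⁻¹, hA.conj (n : G), ?_⟩
  rw [map_mul, map_mul, map_inv, hn, hg]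
  exact act_rep k _

theorem Pi.mem_cA_of {g : cX y} {v : V4} (h : π g = aEl v) : (g : G) ∈ cA π :=
  mem_cA.2 ⟨g.2, v, h.symm⟩

theorem Pi.exists_basis : ∃ b : Fin 4 → cX y, ∀ j, IsA y (b j : G) ∧ π (b j) = aEl (unitV j) := by
  have : ∀ j, ∃ b : cX y, IsA y (b : G) ∧ π b = aEl (unitV j) := fun j => by
    obtain ⟨k, hk, -⟩ := swap_facts 0 j
    obtain ⟨g, h1, h2⟩ := P.exists_orbit k
    exact ⟨g, h1, hk ▸ h2⟩
  choose b hb using this
  exact ⟨b, hb⟩

/-- The subgroup is elementary abelian. -/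
theorem Pi.elementary : Cfsg.IsElementaryAbelian 3 (cA π) := by
  obtain ⟨b, hb⟩ := P.exists_basis
  have hne : ∀ j, π (b j) ≠ 1 := fun j h => by
    rw [(hb j).2] at h
    have key : ∀ j : Fin 4, unitV j ≠ 0 := by decide
    exact key j (aEl_eq_one h)
  have hcomm : ∀ i j, Commute (b i : G) (b j : G) := by
    intro i j
    obtain ⟨k, hij, hji⟩ := swap_facts i j
    obtain ⟨n, hn⟩ := P.surj (rep k)
    have hmove : ∀ i j, lin (repM k) (unitV i) = unitV j → (n : G) * b i * (n : G)⁻¹ = b j := by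
      intro i j h
      have e : π (n * b i * n⁻¹) = aEl (unitV j) := by
        rw [map_mul, map_mul, map_inv, hn, (hb i).2, act_rep k, h]
      exact P.isA_ext (g := n * b i * n⁻¹) (g' := b j) (P.mem_cA_of e) ((hb i).1.conj _) (hb j).1
        (by rw [e, ← (hb j).2]; exact hne j) (e.trans (hb j).2.symm)
    have ei := hmove i j hij
    have ej := hmove j i hji
    have hc : π (b i * b j) = π (b j * b i) := by
      rw [map_mul, map_mul, (hb i).2, (hb j).2, aEl_comm]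
    obtain ⟨e, he⟩ := P.eq_iff.1 hc
    have he' : (b j : G) * b i = b i * b j * y ^ e.val := he
    have hny : (n : G) * y ^ e.val * (n : G)⁻¹ = y ^ e.val := by
      rw [← conj_pow, mem_cX.1 n.2, mul_inv_cancel_right]
    have h2 : (b i : G) * b j = b j * b i * y ^ e.val := by
      calc (b i : G) * b j = ((n : G) * b j * (n : G)⁻¹) * ((n : G) * b i * (n : G)⁻¹) := by rw [ei, ej]
        _ = (n : G) * ((b j : G) * b i) * (n : G)⁻¹ := by group
        _ = ((n : G) * b i * (n : G)⁻¹) * ((n : G) * b j * (n : G)⁻¹) * ((n : G) * y ^ e.val * (n : G)⁻¹) := by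
          rw [he']; group
        _ = _ := by rw [ei, ej, hny]
    have h4 : (y ^ e.val) ^ 2 = 1 := by
      rw [he', mul_assoc, ← pow_two] at h2
      exact mul_left_cancel (h2.symm.trans (mul_one _).symm)
    have h5 : (y ^ e.val) ^ 3 = 1 := by rw [← pow_mul, mul_comm, pow_mul, T.three, one_pow]
    have h6 : y ^ e.val = 1 := by rwa [pow_succ, h4, one_mul] at h5
    rw [h6, mul_one] at he'
    exact he'.symm
  set S : Set G := Set.range (fun j => (b j : G)) ∪ {y} with hS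
  have hSc : ∀ s ∈ S, ∀ t ∈ S, s * t = t * s := by
    have hy : ∀ j, (b j : G) * y = y * b j := fun j => mem_cX.1 (b j).2
    rintro s (⟨i, rfl⟩ | rfl) t (⟨j, rfl⟩ | rfl)
    · exact (hcomm i j).eq
    · exact hy i
    · exact (hy j).symm
    · rfl
  have hle : cA π ≤ closure S := by
    intro x hx
    obtain ⟨hxX, v, hv⟩ := mem_cA.1 hx
    set p : cX y := b 0 ^ v.1.val * b 1 ^ v.2.1.val * b 2 ^ v.2.2.1.val * b 3 ^ v.2.2.2.val with hp
    have hpv : π p = π ⟨x, hxX⟩ := by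
      rw [← hv, hp]; simp only [map_mul, map_pow, (hb _).2, aEl_unit]; rfl
    obtain ⟨e, he⟩ := P.eq_iff.1 hpv
    rw [show x = (p : G) * y ^ e.val from he]
    have hin : ∀ j, (b j : G) ∈ closure S := fun j => Subgroup.subset_closure (Or.inl ⟨j, rfl⟩)
    refine mul_mem ?_ (pow_mem (Subgroup.subset_closure (show y ∈ S from Or.inr rfl)) _)
    exact mul_mem (mul_mem (mul_mem (pow_mem (hin 0) _) (pow_mem (hin 1) _)) (pow_mem (hin 2) _))
      (pow_mem (hin 3) _)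
  have hcen : closure S ≤ centralizer (closure S : Set G) := by
    rw [centralizer_closure, closure_le]
    exact fun s hs => mem_centralizer_iff.2 fun t ht => hSc t ht s hs
  have h3 : ∀ a ∈ closure S, a ^ 3 = 1 := ?_
  · exact ⟨⟨⟨fun a c => Subtype.ext (mem_centralizer_iff.1 (hcen (hle c.2)) _ (hle a.2))⟩⟩, fun a ha => h3 a (hle ha)⟩
  intro a ha
  induction ha using closure_induction with
  | mem s hs =>
    rcases hs with ⟨j, rfl⟩ | rfl
    · exact IsA.three T (hb j).1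
    · exact T.three
  | one => exact one_pow 3
  | mul p q hp hq ihp ihq =>
    have hc : Commute p q := mem_centralizer_iff.1 (hcen hq) p hp
    rw [hc.mul_pow, ihp, ihq, one_mul]
  | inv p hp ihp => rw [inv_pow, ihp, inv_one]

end CfsgLib.SuzEleven
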