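import Cfsg.Agent.SuzThree.Pair
import Cfsg.Agent.SuzThree.Fuse

/-!
Conjugates of the element of order three inside its centraliser in the centraliser of the involution.
-/

set_option autoImplicit false
set_option linter.style.haveILetI false
set_option maxRecDepth 100000

namespace CfsgLib.SuzEleven

open CfsgLib CfsgLib.Quad CfsgLib.SuzInvol CfsgLib.U43Type CfsgLib.SuzThree Subgroup

/-- The number of fixed codes. -/
def fixN (w : List ℕ) : ℕ := (Finset.univ.filter fun n : Fin 64 => aN w n.val = n.val).card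

/-- The four rotations of the second and the third line, and the two of the first. -/
def rots : List (List ℕ) := [SuzThree.w1, SuzThree.w1 ++ SuzThree.w1, SuzThree.w2, SuzThree.w2 ++ SuzThree.w2]

theorem rots_spec : fixN w0 = 16 ∧
    (∀ i : Fin 108, sameW (el i.val ++ el i.val ++ el i.val) [] = true → fixN (el i.val) = 16 →
      (∃ e : Fin 3, sameW (el i.val) (List.replicate e.val w0).flatten = true) ∨
        ∃ r ∈ rots, sameW (el i.val) r = true) ∧
    (∀ r ∈ rots, ∀ e : Fin 3, fixN (r ++ (List.replicate e.val w0).flatten) = 16 → e = 0) ∧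
    (∀ r ∈ rots, okL r = true ∧ ∃ a ∈ ([5, 7] : List ℕ), ∃ b ∈ ([11, 10] : List ℕ),
      bN a b = true ∧ aN r a = a ∧ aN r b = b) ∧
    (∀ e : Fin 3, okL (List.replicate e.val w0).flatten = true ∧
      sameW w1 (List.replicate e.val w0).flatten = false) := by decide +kernel

theorem nat_card_fixN {w : List ℕ} (hw : okL w = true) :
    Nat.card {m : M6 // (oW w).1 m = m} = fixN w := by
  classical
  let f : {n : Fin 64 // aN w n.val = n.val} → {m : M6 // (oW w).1 m = m} := fun n =>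
    ⟨vec n.1.val, by rw [oW_apply hw n.1.isLt, n.2]⟩
  have hf : Function.Bijective f := by
    refine ⟨fun a b h => Subtype.ext (vec_inj' _ _ (congrArg Subtype.val h)), fun m => ?_⟩
    obtain ⟨n, hn, e⟩ := exists_code m.1
    refine ⟨⟨⟨n, hn⟩, ?_⟩, Subtype.ext e⟩
    have h := m.2
    rw [← e, oW_apply hw hn] at h
    exact vec_inj (aN_lt hw hn) hn h
  rw [← Nat.card_congr (Equiv.ofBijective f hf), Nat.card_eq_fintype_card, Fintype.card_subtype, fixN]

variable {G : Type*} [Group G] [Finite G] {z : G} {D : Dat z} {y : G}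

/-- A conjugate of the distinguished element. -/
def IsA (y g : G) : Prop := ∃ k : G, k * y * k⁻¹ = g

omit [Finite G] in
theorem IsA.conj {g : G} (h : IsA y g) (c : G) : IsA y (c * g * c⁻¹) := by
  obtain ⟨k, rfl⟩ := h
  exact ⟨c * k, by group⟩

omit [Finite G] in
theorem IsA.refl : IsA y y := ⟨1, by group⟩

theorem IsA.three (T : Three D y) {g : G} (h : IsA y g) : g ^ 3 = 1 := by
  obtain ⟨k, rfl⟩ := h
  rw [conj_pow, T.three]; group

/-- The element is inverted. -/
theorem exists_w (T : Three D y) : ∃ w : G, w * y * w⁻¹ = y⁻¹ := by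
  obtain ⟨ψ, P⟩ := T.exists_psi
  obtain ⟨w, hw, -, -⟩ := T.exists_inverter (P.mem (h₀, 1)) P.hcube P.hact
  exact ⟨w, hw⟩

theorem IsA.inv (T : Three D y) {g : G} (h : IsA y g) : IsA y g⁻¹ := by
  obtain ⟨w, hw⟩ := exists_w T
  obtain ⟨k, rfl⟩ := h
  refine ⟨k * w, ?_⟩
  calc k * w * y * (k * w)⁻¹ = k * (w * y * w⁻¹) * k⁻¹ := by group
    _ = _ := by rw [hw]; group

/-- A conjugate different from the powers of the element exists. -/
theorem exists_outside (T : Three D y) : ∃ h ∈ Kc T, IsA y h ∧ h ∉ zpowers y := by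
  obtain ⟨ψ, P⟩ := T.exists_psi
  refine ⟨ψ (h₀, 1), P.mem _, ?_, fun hmem => ?_⟩
  · obtain ⟨k, hk⟩ := T.conj_h ((mem_Kc T).1 (P.mem _)).1 P.hcube P.hact
    exact ⟨k⁻¹, by rw [← hk]; group⟩
  · obtain ⟨e, he⟩ := mem_zpowers_three T hmem
    have h1 := act_ypow T e.val
    rw [← he, P.hact] at h1
    have h2 := eq_of_sameW okL_small.2.1 (rots_spec.2.2.2.2 e).1 h1
    rw [(rots_spec.2.2.2.2 e).2] at h2
    exact Bool.false_ne_true h2

theorem fix_card_of_conj (T : Three D y) {g c : G} (hc : c ∈ centralizer ({z} : Set G))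
    (h : c * y * c⁻¹ = g) : Nat.card {m : M6 // (actG D g).1 m = m} = 16 := by
  rw [← rots_spec.1, ← nat_card_fixN okL_small.1]
  have e : actG D g = actG D c * oW w0 * (actG D c)⁻¹ := by
    rw [← h, actG_mul D (mul_mem hc T.mem) (inv_mem hc), actG_mul D hc T.mem, actG_inv D hc, T.act]
  refine Nat.card_congr (Equiv.subtypeEquiv (actG D c).1.toEquiv fun m => ?_).symm
  have e2 : actG D g * actG D c = actG D c * oW w0 := by rw [e, inv_mul_cancel_right]
  have e3 : (actG D g).1 ((actG D c).1 m) = (actG D c).1 ((oW w0).1 m) :=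
    congrArg (fun t : O6 => t.1 m) e2
  show (oW w0).1 m = m ↔ (actG D g).1 ((actG D c).1 m) = (actG D c).1 m
  rw [e3]
  exact ⟨fun h' => by rw [h'], fun h' => (actG D c).1.injective h'⟩

/-- The conjugates lying in the small centraliser act as rotations. -/
theorem act_of_conj (T : Three D y) {g c : G} (hg : g ∈ Kc T) (hc : c ∈ centralizer ({z} : Set G))
    (h : c * y * c⁻¹ = g) (hne : g ∉ zpowers y) : ∃ r ∈ rots, actG D g = oW r := by
  have hgC := ((mem_Kc T).1 hg).1
  obtain ⟨i, hi⟩ := T.act_el hg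
  have hok := (el_facts i).1
  have hf : fixN (el i.val) = 16 := by rw [← nat_card_fixN hok, ← hi]; exact fix_card_of_conj T hc h
  have h3 : sameW (el i.val ++ el i.val ++ el i.val) [] = true := by
    refine eq_of_sameW (by simp [okL_append, hok]) rfl ?_
    rw [oW_append, oW_append, oW_nil, ← hi, ← actG_mul D hgC hgC, ← actG_mul D (mul_mem hgC hgC) hgC,
      show g * g * g = g ^ 3 by rw [pow_succ, pow_two], IsA.three T ⟨c, h⟩, actG_one]
  rcases rots_spec.2.1 i h3 hf with ⟨e, he⟩ | ⟨r, hr, he⟩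
  · exfalso
    have hQ : g * (y ^ e.val)⁻¹ ∈ D.Q := mem_Q_of_act_eq D hgC (pow_mem T.mem _) (by
      rw [hi, act_ypow T]; exact oW_eq hok (rots_spec.2.2.2.2 e).1 he)
    have hgy : Commute g (y ^ e.val) := (show Commute g y from ((mem_Kc T).1 hg).2).pow_right _
    have h1 : (g * (y ^ e.val)⁻¹) ^ 128 = 1 := pow_Q hQ
    have h2 : (g * (y ^ e.val)⁻¹) ^ 3 = 1 := by
      rw [hgy.inv_right.mul_pow, IsA.three T ⟨c, h⟩, inv_pow, ← pow_mul, mul_comm, pow_mul, T.three,
        one_pow, inv_one, mul_one]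
    have h4 : g * (y ^ e.val)⁻¹ = 1 := by
      rw [show 128 = 3 * 42 + 2 from rfl, pow_add, pow_mul, h2, one_pow, one_mul] at h1
      rw [pow_succ, h1, one_mul] at h2
      exact h2
    exact hne ((mul_inv_eq_one.1 h4) ▸ pow_mem (mem_zpowers y) _)
  · exact ⟨r, hr, by rw [hi]; exact oW_eq hok (rots_spec.2.2.2.1 r hr).1 he⟩

/-- Such a conjugate centralises two noncommuting elements of the kernel. -/
theorem exists_fixed_pair (T : Three D y) {g c : G} (hg : g ∈ Kc T) (hc : c ∈ centralizer ({z} : Set G))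
    (h : c * y * c⁻¹ = g) (hne : g ∉ zpowers y) :
    ∃ q q' : G, q ∈ D.Q ∧ q ∈ Kc T ∧ q' ∈ D.Q ∧ q' ∈ Kc T ∧ g * q = q * g ∧ g * q' = q' * g ∧
      q * q' ≠ q' * q := by
  obtain ⟨r, hr, hact⟩ := act_of_conj T hg hc h hne
  obtain ⟨hok, a, ha, b, hb, hab, hra, hrb⟩ := rots_spec.2.2.2.1 r hr
  have hgC := ((mem_Kc T).1 hg).1
  have h16 : ∀ n ∈ ([5, 7, 11, 10] : List ℕ), n < 16 := by decide
  have ha16 : a < 16 := h16 a (by simp at ha ⊢; tauto)
  have hb16 : b < 16 := h16 b (by simp at hb ⊢; tauto)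
  obtain ⟨q, hq, eq⟩ := D.π_surj (vec a)
  obtain ⟨q', hq', eq'⟩ := D.π_surj (vec b)
  have hfix : ∀ {n : ℕ} {q : G}, n < 64 → q ∈ D.Q → D.π q = vec n → aN r n = n → g * q = q * g :=
    fun {n q} hn hq e hn' => comm_of_fixed D hgC (IsA.three T ⟨c, h⟩) hq (by
      rw [hact, e, oW_apply hok hn, hn'])
  refine ⟨q, q', hq, (T.fixed_lt hq (by omega) eq).2 ha16, hq', (T.fixed_lt hq' (by omega) eq').2 hb16,
    hfix (by omega) hq eq hra, hfix (by omega) hq' eq' hrb, fun e => ?_⟩
  have h0 := (D.comm_iff q hq q' hq').1 e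
  rw [eq, eq', bf_vec ⟨a, by omega⟩ ⟨b, by omega⟩] at h0
  simp [hab] at h0

/-- Two conjugates in one coset of the powers are equal. -/
theorem eq_of_coset (T : Three D y) {g c c' : G} {e : Fin 3} (hg : g ∈ Kc T)
    (hc : c ∈ centralizer ({z} : Set G)) (h : c * y * c⁻¹ = g) (hne : g ∉ zpowers y)
    (hc' : c' ∈ centralizer ({z} : Set G)) (h' : c' * y * c'⁻¹ = g * y ^ e.val) : e = 0 := by
  obtain ⟨r, hr, hact⟩ := act_of_conj T hg hc h hne
  have hok := (rots_spec.2.2.2.1 r hr).1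
  have hok' := (rots_spec.2.2.2.2 e).1
  refine rots_spec.2.2.1 r hr e ?_
  rw [← nat_card_fixN (by rw [okL_append, hok, hok']; rfl), oW_append, ← hact, ← act_ypow T,
    ← actG_mul D ((mem_Kc T).1 hg).1 (pow_mem T.mem _)]
  exact fix_card_of_conj T hc' h'

end CfsgLib.SuzEleven
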