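import Cfsg.Agent.SuzEleven.Calc

/-!
An elementary abelian subgroup of order 81 of the four-dimensional unitary group over nine elements:
its normaliser, its uniqueness in a Sylow 3-subgroup and its transvections.
-/

set_option autoImplicit false
set_option maxRecDepth 100000
set_option linter.style.haveILetI false

namespace CfsgLib.SuzEleven

open CfsgLib.U43Type CfsgLib.Coset
open Cfsg.Agent.McLU43 (K9 dec fadd fmul)

local notation "SU4" => Cfsg.SU 4 K9 3
local notation "PSU4" => Cfsg.PSU 4 K9 3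

/-- The element of a word. -/
noncomputable def pw (w : List Nat) : PSU4 := ev LP w

theorem pw_append (u v : List Nat) : pw (u ++ v) = pw u * pw v := ev_append _ _ _

theorem pw_nil : pw [] = 1 := ev_nil _

theorem pw_iW (w : List Nat) : pw (iW w) = (pw w)⁻¹ :=
  J2U.ev_inv_word
    (J2U.inv_of_rels (show LP.length = 9 from rfl) LP_rel (by decide +kernel)
      (fun x hx => List.getD_eq_default _ _ (by simpa using hx))) w

theorem pw_eq {u v : List Nat} (h : eqW u v = true) : pw u = pw v := by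
  have h1 : pw (u ++ iW v) = 1 := by
    rw [pw, ev_LP]
    exact (QuotientGroup.eq_one_iff _).2 (Mats.central_of_scal h)
  rwa [pw_append, pw_iW, mul_inv_eq_one] at h1

theorem pw_ne {w : List Nat} {l : Fin 9} (h : noncentral w l = true) : pw w ≠ 1 := LP_ne h

theorem pw_powW (n : Nat) (w : List Nat) : pw (powW n w) = pw w ^ n := by
  induction n with
  | zero => rw [powW, List.replicate_zero, List.flatten_nil, pw_nil, pow_zero]
  | succ n ih => rw [powW, List.replicate_succ, List.flatten_cons, pw_append, ← powW, ih, pow_succ']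

theorem sm_add (c : ZMod 3) (u v : V4) : sm c (u + v) = sm c u + sm c v := by
  simp [sm, mul_add]

theorem lin_add (A : M4) (u v : V4) : lin A (u + v) = lin A u + lin A v := by
  simp only [lin, sm, Prod.fst_add, Prod.snd_add, Prod.mk_add_mk, add_mul, Prod.mk.injEq]
  refine ⟨?_, ?_, ?_, ?_⟩ <;> ring

theorem lin_sm (A : M4) (c : ZMod 3) (v : V4) : lin A (sm c v) = sm c (lin A v) := by
  simp only [lin, sm, Prod.mk_add_mk, Prod.fst_add, Prod.snd_add, Prod.mk.injEq]
  refine ⟨?_, ?_, ?_, ?_⟩ <;> ring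

theorem lin_comp (A B : M4) (v : V4) : lin (compM A B) v = lin A (lin B v) := by
  simp only [compM, lin, sm, Prod.mk_add_mk, Prod.fst_add, Prod.snd_add, Prod.mk.injEq]
  refine ⟨?_, ?_, ?_, ?_⟩ <;> ring

theorem lin_one (v : V4) : lin oneM v = v := by
  simp [oneM, lin, sm]

theorem lin_unit (A : M4) : lin A (unitV 0) = A.1 ∧ lin A (unitV 1) = A.2.1 ∧ lin A (unitV 2) = A.2.2.1 ∧
    lin A (unitV 3) = A.2.2.2 := by
  simp [unitV, lin, sm, Prod.ext_iff]

theorem lin_neg (A : M4) (v : V4) : lin A (-v) = -lin A v :=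
  eq_neg_of_add_eq_zero_left (by
    rw [← lin_add, neg_add_cancel]
    simp [lin, sm])

/-- The element of a basis vector. -/
noncomputable def eEl (k : Fin 4) : PSU4 := pw (eW k)

/-- The element of a vector. -/
noncomputable def aEl (v : V4) : PSU4 :=
  eEl 0 ^ v.1.val * eEl 1 ^ v.2.1.val * eEl 2 ^ v.2.2.1.val * eEl 3 ^ v.2.2.2.val

theorem pw_aW (v : V4) : pw (aW v) = aEl v := by
  simp only [aW, pw_append, pw_powW, aEl, eEl]

theorem eEl_comm (i j : Fin 4) : Commute (eEl i) (eEl j) := by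
  have := pw_eq (basis_facts.1 i j)
  rwa [pw_append, pw_append] at this

theorem eEl_three (i : Fin 4) : eEl i ^ 3 = 1 := by
  have := pw_eq (basis_facts.2.1 i)
  rw [pw_append, pw_append, pw_nil] at this
  rw [pow_succ, pow_two]
  exact this

theorem aEl_zero : aEl 0 = 1 := by simp [aEl]

theorem aEl_add (u v : V4) : aEl (u + v) = aEl u * aEl v := by
  have hp : ∀ i : Fin 4, ∀ a b : ZMod 3, eEl i ^ (a + b).val = eEl i ^ a.val * eEl i ^ b.val := fun i a b => by
    rw [ZMod.val_add, ← pow_eq_pow_mod _ (eEl_three i), pow_add]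
  simp only [aEl, Prod.fst_add, Prod.snd_add, hp]
  have c := fun i j (a b : Nat) => ((eEl_comm i j).pow_pow a b)
  set a0 := eEl 0 ^ u.1.val
  set a1 := eEl 1 ^ u.2.1.val
  set a2 := eEl 2 ^ u.2.2.1.val
  set a3 := eEl 3 ^ u.2.2.2.val
  set b0 := eEl 0 ^ v.1.val
  set b1 := eEl 1 ^ v.2.1.val
  set b2 := eEl 2 ^ v.2.2.1.val
  set b3 := eEl 3 ^ v.2.2.2.val
  have k3 : Commute a3 (b0 * b1 * b2) :=
    ((c 3 0 _ _).mul_right (c 3 1 _ _)).mul_right (c 3 2 _ _)
  have k2 : Commute a2 (b0 * b1) := (c 2 0 _ _).mul_right (c 2 1 _ _)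
  have k1 : Commute a1 b0 := c 1 0 _ _
  calc a0 * b0 * (a1 * b1) * (a2 * b2) * (a3 * b3)
      = a0 * (b0 * a1) * (b1 * a2) * (b2 * a3) * b3 := by group
    _ = a0 * (a1 * b0) * (b1 * a2) * (b2 * a3) * b3 := by rw [k1.eq]
    _ = a0 * a1 * ((b0 * b1) * a2) * (b2 * a3) * b3 := by group
    _ = a0 * a1 * (a2 * (b0 * b1)) * (b2 * a3) * b3 := by rw [k2.eq]
    _ = a0 * a1 * a2 * ((b0 * b1 * b2) * a3) * b3 := by group
    _ = a0 * a1 * a2 * (a3 * (b0 * b1 * b2)) * b3 := by rw [k3.eq]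
    _ = _ := by group

theorem aEl_comm (u v : V4) : aEl u * aEl v = aEl v * aEl u := by
  rw [← aEl_add, ← aEl_add, add_comm]

theorem aEl_eq_one {v : V4} (h : aEl v = 1) : v = 0 := by
  by_contra hv
  obtain ⟨l, hl⟩ := basis_facts.2.2 v hv
  exact pw_ne hl (by rw [pw_aW, h])

theorem aEl_neg (v : V4) : aEl (-v) = (aEl v)⁻¹ :=
  eq_inv_of_mul_eq_one_left (by rw [← aEl_add, neg_add_cancel, aEl_zero])

theorem aEl_inj : Function.Injective aEl := fun u v h =>
  sub_eq_zero.1 (aEl_eq_one (by rw [sub_eq_add_neg, aEl_add, aEl_neg, h, mul_inv_cancel]))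

/-- The elementary abelian subgroup of order 81. -/
noncomputable def Abar : Subgroup PSU4 where
  carrier := Set.range aEl
  one_mem' := ⟨0, aEl_zero⟩
  mul_mem' := by rintro _ _ ⟨u, rfl⟩ ⟨v, rfl⟩; exact ⟨u + v, aEl_add u v⟩
  inv_mem' := by rintro _ ⟨u, rfl⟩; exact ⟨-u, aEl_neg u⟩

theorem mem_Abar {x : PSU4} : x ∈ Abar ↔ ∃ v, aEl v = x := Iff.rfl

theorem card_Abar : Nat.card Abar = 81 := by
  rw [show Nat.card Abar = Nat.card (Set.range aEl) from rfl,
    Nat.card_range_of_injective aEl_inj, Nat.card_eq_fintype_card]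
  rfl

/-- The element acts on the subgroup by the linear map. -/
def Act (n : PSU4) (A : M4) : Prop := ∀ v, n * aEl v * n⁻¹ = aEl (lin A v)

theorem aEl_unit (k : Fin 4) : aEl (unitV k) = eEl k := by
  fin_cases k <;> simp [aEl, unitV, show (1 : ZMod 3).val = 1 from rfl]

theorem Act.of_units {n : PSU4} {A : M4} (h : ∀ k, n * aEl (unitV k) * n⁻¹ = aEl (lin A (unitV k))) :
    Act n A := by
  intro v
  have hsm : ∀ (c : ZMod 3) (w : V4), aEl (sm c w) = aEl w ^ c.val := by
    intro c w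
    have key : ∀ c : ZMod 3, c = 0 ∨ c = 1 ∨ c = 2 := by decide
    rcases key c with rfl | rfl | rfl
    · rw [ZMod.val_zero, pow_zero, ← aEl_zero]; congr 1; simp [sm]
    · rw [show (1 : ZMod 3).val = 1 from rfl, pow_one]; congr 1; simp [sm]
    · rw [show (2 : ZMod 3).val = 2 from rfl, pow_two, ← aEl_add]; congr 1; simp [sm, two_mul, Prod.ext_iff]
  have hv : v = sm v.1 (unitV 0) + sm v.2.1 (unitV 1) + sm v.2.2.1 (unitV 2) + sm v.2.2.2 (unitV 3) := by
    simp [sm, unitV]
  conv_lhs => rw [hv]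
  obtain ⟨e0, e1, e2, e3⟩ := lin_unit A
  rw [show lin A v = sm v.1 A.1 + sm v.2.1 A.2.1 + sm v.2.2.1 A.2.2.1 + sm v.2.2.2 A.2.2.2 from rfl,
    ← e0, ← e1, ← e2, ← e3]
  simp only [aEl_add, hsm, ← h, conj_pow]
  group

theorem Act.mul {m n : PSU4} {A B : M4} (hm : Act m A) (hn : Act n B) : Act (m * n) (compM A B) := fun v => by
  rw [lin_comp, ← hm, ← hn]; group

theorem act_one : Act 1 oneM := fun v => by rw [lin_one]; group

theorem act_aEl (u : V4) : Act (aEl u) oneM := fun v => by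
  rw [lin_one, aEl_comm, mul_inv_cancel_right]

theorem Act.unique {n : PSU4} {A B : M4} (hA : Act n A) (hB : Act n B) : A = B := by
  have h : ∀ v, lin A v = lin B v := fun v => aEl_inj ((hA v).symm.trans (hB v))
  obtain ⟨a0, a1, a2, a3⟩ := lin_unit A
  obtain ⟨b0, b1, b2, b3⟩ := lin_unit B
  refine Prod.ext ?_ (Prod.ext ?_ (Prod.ext ?_ ?_))
  · rw [← a0, h, b0]
  · rw [← a1, h, b1]
  · rw [← a2, h, b2]
  · rw [← a3, h, b3]

theorem act_gen : ∀ l : Nat, Act (pw (gW l)) (gM l) := by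
  intro l
  rcases lt_or_ge l 4 with h | h
  · refine Act.of_units fun k => ?_
    have := pw_eq (gen_act ⟨l, h⟩ k)
    rw [pw_append, pw_append, pw_aW] at this
    rw [aEl_unit, eEl, this, mul_inv_cancel_right]
  · rw [gW, gM, List.getD_eq_default _ _ (show genW.length ≤ l from h),
      List.getD_eq_default _ _ (show genM.length ≤ l from h), pw_nil]
    exact act_one

/-- The transversal element. -/
noncomputable def rep (k : Fin 360) : PSU4 := pw (wordL (repG k))

theorem act_word : ∀ w : List Nat, Act (pw (wordL w)) (matL w)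
  | [] => by rw [wordL, List.map_nil, List.flatten_nil, pw_nil]; exact act_one
  | l :: w => by
    rw [wordL, List.map_cons, List.flatten_cons, pw_append]
    exact (act_gen l).mul (act_word w)

theorem act_rep (k : Fin 360) : Act (rep k) (repM k) := act_word _

theorem card_PSU4 : Nat.card PSU4 = 3265920 := CfsgLib.MinIdxPSU.card_psu43 CfsgLib.J2.Perm.hF

theorem simple_PSU4 : IsSimpleGroup PSU4 :=
  CfsgLib.Unitary.isSimpleGroup_PSU CfsgLib.J2.Perm.hF (n := 4) (by norm_num) (by norm_num)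

theorem card_normalizer_le : Nat.card (Subgroup.normalizer (Abar : Set PSU4)) ≤ 29160 := by
  have hne : Subgroup.normalizer (Abar : Set PSU4) ≠ ⊤ := by
    intro h
    haveI := simple_PSU4
    have hn : Abar.Normal := Subgroup.normalizer_eq_top_iff.1 h
    rcases hn.eq_bot_or_eq_top with e | e
    · have := card_Abar; rw [e, Subgroup.card_bot] at this; omega
    · have := card_Abar; rw [e, Subgroup.card_top, card_PSU4] at this; omega
  have h112 := CfsgLib.MinIdxPSU.psu_four_three CfsgLib.J2.Perm.hF _ hne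
  have h := Subgroup.card_mul_index (Subgroup.normalizer (Abar : Set PSU4))
  rw [card_PSU4] at h
  nlinarith [h, h112]

theorem mem_normalizer_of_act {n : PSU4} {A : M4} (h : Act n A) (hs : ∀ v, ∃ u, lin A u = v) :
    n ∈ Subgroup.normalizer (Abar : Set PSU4) := by
  rw [Subgroup.mem_normalizer_iff]
  intro x
  refine ⟨?_, fun hx => ?_⟩
  · rintro ⟨v, rfl⟩; exact ⟨_, (h v).symm⟩
  · obtain ⟨v, hv⟩ := hx
    obtain ⟨u, rfl⟩ := hs v
    rw [← h u] at hv
    exact ⟨u, mul_left_cancel (mul_right_cancel hv)⟩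

theorem lin_rep_surj (k : Fin 360) (v : V4) : ∃ u, lin (repM k) u = v := by
  have hinj : Function.Injective (lin (repM k)) := fun a b h => by
    refine aEl_inj ?_
    have h1 := act_rep k a
    rw [h, ← act_rep k b] at h1
    exact mul_left_cancel (mul_right_cancel h1)
  exact (Finite.injective_iff_surjective.1 hinj) v

/-- The normaliser is covered by the transversal. -/
theorem normalizer_cases {n : PSU4} (hn : n ∈ Subgroup.normalizer (Abar : Set PSU4)) :
    ∃ (k : Fin 360) (v : V4), n = aEl v * rep k := by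
  let f : Fin 360 × V4 → Subgroup.normalizer (Abar : Set PSU4) := fun p =>
    ⟨aEl p.2 * rep p.1, mul_mem (Subgroup.le_normalizer ⟨p.2, rfl⟩)
      (mem_normalizer_of_act (act_rep p.1) (lin_rep_surj p.1))⟩
  have hinj : Function.Injective f := by
    rintro ⟨k, v⟩ ⟨l, u⟩ h
    have h' : aEl v * rep k = aEl u * rep l := congrArg Subtype.val h
    have e1 : repM k = repM l := by
      have a := (act_aEl v).mul (act_rep k)
      rw [h'] at a
      have b := a.unique ((act_aEl u).mul (act_rep l))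
      have c : ∀ x, lin (repM k) x = lin (repM l) x := fun x => by
        have := congrArg (fun A => lin A x) b
        simpa [lin_comp, lin_one] using this
      obtain ⟨a0, a1, a2, a3⟩ := lin_unit (repM k)
      obtain ⟨b0, b1, b2, b3⟩ := lin_unit (repM l)
      refine Prod.ext ?_ (Prod.ext ?_ (Prod.ext ?_ ?_))
      · rw [← a0, c, b0]
      · rw [← a1, c, b1]
      · rw [← a2, c, b2]
      · rw [← a3, c, b3]
    obtain rfl := repM_inj e1
    exact Prod.ext rfl (aEl_inj (mul_right_cancel h'))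
  haveI : Finite (Subgroup.normalizer (Abar : Set PSU4)) := inferInstance
  have hc : Nat.card (Fin 360 × V4) = 29160 := by
    rw [Nat.card_prod, Nat.card_fin, Nat.card_eq_fintype_card]; rfl
  have hbij : Function.Bijective f := (Nat.bijective_iff_injective_and_card f).2 ⟨hinj, by
    refine le_antisymm (Nat.card_le_card_of_injective f hinj) ?_
    rw [hc]; exact card_normalizer_le⟩
  obtain ⟨⟨k, v⟩, hp⟩ := hbij.2 ⟨n, hn⟩
  exact ⟨k, v, (congrArg Subtype.val hp).symm⟩

theorem card_normalizer : Nat.card (Subgroup.normalizer (Abar : Set PSU4)) = 29160 := by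
  refine le_antisymm card_normalizer_le ?_
  let f : Fin 360 × V4 → Subgroup.normalizer (Abar : Set PSU4) := fun p =>
    ⟨aEl p.2 * rep p.1, mul_mem (Subgroup.le_normalizer ⟨p.2, rfl⟩)
      (mem_normalizer_of_act (act_rep p.1) (lin_rep_surj p.1))⟩
  have hinj : Function.Injective f := by
    rintro ⟨k, v⟩ ⟨l, u⟩ h
    have h' : aEl v * rep k = aEl u * rep l := congrArg Subtype.val h
    have e : compM oneM (repM k) = compM oneM (repM l) := by
      have a := (act_aEl v).mul (act_rep k)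
      rw [h'] at a
      exact a.unique ((act_aEl u).mul (act_rep l))
    have e1 : repM k = repM l := by simpa [compM, lin_one] using e
    obtain rfl := repM_inj e1
    exact Prod.ext rfl (aEl_inj (mul_right_cancel h'))
  have := Nat.card_le_card_of_injective f hinj
  rwa [Nat.card_prod, Nat.card_fin, Nat.card_eq_fintype_card,
    show Fintype.card V4 = 81 from rfl] at this

theorem mem_Abar_of_fix {n : PSU4} (hn : n ∈ Subgroup.normalizer (Abar : Set PSU4))
    (h : ∀ i : Fin 10, n * aEl (lineV i) * n⁻¹ = aEl (lineV i) ∨ n * aEl (lineV i) * n⁻¹ = aEl (-lineV i)) :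
    n ∈ Abar := by
  obtain ⟨k, v, rfl⟩ := normalizer_cases hn
  have ha := (act_aEl v).mul (act_rep k)
  have hk : repM k = oneM := lines_faithful k fun i => by
    have h1 := h i
    rw [ha, lin_comp, lin_one] at h1
    exact h1.imp (fun e => aEl_inj e) (fun e => aEl_inj e)
  have h0 : rep k = 1 := by
    obtain ⟨j, hj⟩ := one_rep
    have hkj : k = j := repM_inj (hk.trans hj.symm)
    subst hkj
    have hj0 : k = ⟨idIdx, by decide⟩ := repM_inj (hk.trans (by decide +kernel))
    subst hj0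
    exact pw_nil
  rw [h0, mul_one]
  exact ⟨v, rfl⟩

theorem centralizer_Abar {c : PSU4} (hc : ∀ a ∈ Abar, c * a = a * c) : c ∈ Abar := by
  have hN : c ∈ Subgroup.normalizer (Abar : Set PSU4) := by
    refine mem_normalizer_of_act (A := oneM) (fun v => ?_) (fun v => ⟨v, lin_one v⟩)
    rw [lin_one, hc _ ⟨v, rfl⟩, mul_inv_cancel_right]
  exact mem_Abar_of_fix hN fun i => Or.inl (by rw [hc _ ⟨_, rfl⟩, mul_inv_cancel_right])

/-- A Sylow 3-subgroup. -/
noncomputable def Pbar : Subgroup PSU4 := Subgroup.closure {n | ∃ i : Fin 9, Act n (repM (nineK i))}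

theorem mem_Pbar {n : PSU4} : n ∈ Pbar ↔ ∃ i : Fin 9, Act n (repM (nineK i)) := by
  let S : Submonoid PSU4 :=
    { carrier := {n | ∃ i : Fin 9, Act n (repM (nineK i))}
      one_mem' := ⟨0, by rw [nine_facts.1]; exact act_one⟩
      mul_mem' := by
        rintro m n ⟨i, hi⟩ ⟨j, hj⟩
        obtain ⟨l, hl⟩ := nine_facts.2.2 i j
        exact ⟨l, hl ▸ hi.mul hj⟩ }
  constructor
  · intro h
    have hle : (Pbar : Subgroup PSU4).toSubmonoid ≤ S := by
      rw [Pbar, Subgroup.closure_toSubmonoid_of_finite]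
      exact Submonoid.closure_le.2 fun x hx => hx
    exact hle h
  · exact fun h => Subgroup.subset_closure h

theorem Abar_le_Pbar : Abar ≤ Pbar := by
  rintro _ ⟨v, rfl⟩
  exact mem_Pbar.2 ⟨0, by rw [nine_facts.1]; exact act_aEl v⟩

theorem Pbar_le : Pbar ≤ Subgroup.normalizer (Abar : Set PSU4) := by
  intro n hn
  obtain ⟨i, hi⟩ := mem_Pbar.1 hn
  exact mem_normalizer_of_act hi (lin_rep_surj _)

theorem Pbar_cases {n : PSU4} (hn : n ∈ Pbar) : ∃ (i : Fin 9) (v : V4), n = aEl v * rep (nineK i) := by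
  obtain ⟨i, hi⟩ := mem_Pbar.1 hn
  obtain ⟨k, v, rfl⟩ := normalizer_cases (Pbar_le hn)
  have e := ((act_aEl v).mul (act_rep k)).unique hi
  have e1 : repM k = repM (nineK i) := by simpa [compM, lin_one] using e
  exact ⟨i, v, by rw [repM_inj e1]⟩

theorem card_Pbar : Nat.card Pbar = 729 := by
  have hmem : ∀ p : Fin 9 × V4, aEl p.2 * rep (nineK p.1) ∈ Pbar := fun p =>
    mul_mem (Abar_le_Pbar ⟨p.2, rfl⟩) (mem_Pbar.2 ⟨p.1, act_rep _⟩)
  let f : Fin 9 × V4 → Pbar := fun p => ⟨_, hmem p⟩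
  have hf : Function.Bijective f := by
    refine ⟨?_, fun x => ?_⟩
    · rintro ⟨i, v⟩ ⟨j, u⟩ h
      have h' : aEl v * rep (nineK i) = aEl u * rep (nineK j) := congrArg Subtype.val h
      have a := (act_aEl v).mul (act_rep (nineK i))
      rw [h'] at a
      have e := a.unique ((act_aEl u).mul (act_rep (nineK j)))
      have e1 : repM (nineK i) = repM (nineK j) := by simpa [compM, lin_one] using e
      have hij : i = j := by
        by_contra hne
        exact nine_facts.2.1 i j hne (repM_inj e1)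
      subst hij
      exact Prod.ext rfl (aEl_inj (mul_right_cancel h'))
    · obtain ⟨i, v, h⟩ := Pbar_cases x.2
      exact ⟨(i, v), Subtype.ext h.symm⟩
  rw [← Nat.card_congr (Equiv.ofBijective f hf), Nat.card_prod, Nat.card_fin, Nat.card_eq_fintype_card]
  rfl

theorem abelian_le {E : Subgroup PSU4} (hE : E ≤ Pbar) (hab : ∀ a ∈ E, ∀ b ∈ E, a * b = b * a)
    (hcard : 81 ≤ Nat.card E) : E = Abar := by
  suffices h : E ≤ Abar from Subgroup.eq_of_le_of_card_ge h (by rw [card_Abar]; exact hcard)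
  intro x hx
  obtain ⟨i, v, rfl⟩ := Pbar_cases (hE hx)
  by_contra hxA
  have hi : i ≠ 0 := by
    rintro rfl
    refine hxA (mul_mem ⟨v, rfl⟩ (centralizer_Abar fun a ha => ?_))
    obtain ⟨u, rfl⟩ := ha
    have := act_rep (nineK 0) u
    rw [nine_facts.1, lin_one, mul_inv_eq_iff_eq_mul] at this
    exact this
  set F := (E ⊓ Abar : Subgroup PSU4)
  have hfix : ∀ u : V4, aEl u ∈ E → lin (repM (nineK i)) u = u := by
    intro u hu
    have h1 := ((act_aEl v).mul (act_rep (nineK i))) u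
    rw [hab _ hx _ hu, mul_inv_cancel_right, lin_comp, lin_one] at h1
    exact (aEl_inj h1).symm
  have hF : Nat.card F ≤ 9 := by
    have hg : ∀ y : F, ∃ u : {u : V4 // lin (repM (nineK i)) u = u}, aEl u.1 = y.1 := by
      rintro ⟨y, hyE, ⟨u, rfl⟩⟩
      exact ⟨⟨u, hfix u hyE⟩, rfl⟩
    choose g hg using hg
    have := Nat.card_le_card_of_injective g fun a b h => Subtype.ext (by rw [← hg a, ← hg b, h])
    refine this.trans ?_
    rw [Nat.card_eq_fintype_card, Fintype.card_subtype]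
    exact fixed_small i hi
  -- all nine cosets meet the subgroup
  let code : E → Fin 9 := fun y => (Pbar_cases (hE y.2)).choose
  have hcode : ∀ y : E, ∃ u, (y : PSU4) = aEl u * rep (nineK (code y)) := fun y =>
    (Pbar_cases (hE y.2)).choose_spec
  have hdiff : ∀ y y' : E, code y = code y' → (y : PSU4) * (y' : PSU4)⁻¹ ∈ F := by
    intro y y' h
    obtain ⟨u, hu⟩ := hcode y
    obtain ⟨u', hu'⟩ := hcode y'
    refine ⟨E.mul_mem y.2 (E.inv_mem y'.2), ⟨u - u', ?_⟩⟩
    rw [hu, hu', h, sub_eq_add_neg, aEl_add, aEl_neg]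
    group
  have hsize : ∀ S : Finset (Fin 9), (∀ y : E, code y ∈ S) → Nat.card E ≤ S.card * Nat.card F := by
    intro S hS
    have hsec : ∀ s : S, ∃ y₀ : E, (∃ y : E, code y = s.1) → code y₀ = s.1 := by
      intro s
      by_cases h : ∃ y : E, code y = s.1
      · exact ⟨h.choose, fun _ => h.choose_spec⟩
      · exact ⟨⟨1, one_mem E⟩, fun h' => absurd h' h⟩
    choose sec hsec using hsec
    let g : E → S × F := fun y => (⟨code y, hS y⟩, ⟨(y : PSU4) * ((sec ⟨code y, hS y⟩ : E) : PSU4)⁻¹,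
      hdiff _ _ (hsec ⟨code y, hS y⟩ ⟨y, rfl⟩).symm⟩)
    have hg : Function.Injective g := by
      intro a b h
      obtain ⟨h1, h2⟩ := Prod.ext_iff.1 h
      have e : (sec ⟨code a, hS a⟩ : PSU4) = sec ⟨code b, hS b⟩ := by
        congr 2
      have h3 : (a : PSU4) * ((sec ⟨code a, hS a⟩ : E) : PSU4)⁻¹ = b * ((sec ⟨code b, hS b⟩ : E) : PSU4)⁻¹ :=
        congrArg Subtype.val h2
      rw [e] at h3
      exact Subtype.ext (mul_right_cancel h3)
    have := Nat.card_le_card_of_injective g hg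
    rwa [Nat.card_prod, show Nat.card S = S.card by rw [Nat.card_eq_fintype_card, Fintype.card_coe]] at this
  have hall : ∀ j : Fin 9, ∃ y : E, code y = j := by
    intro j
    by_contra hno
    push Not at hno
    have := hsize (Finset.univ.erase j) fun y => Finset.mem_erase.2 ⟨hno y, Finset.mem_univ _⟩
    rw [Finset.card_erase_of_mem (Finset.mem_univ _), Finset.card_univ, Fintype.card_fin] at this
    nlinarith
  have hF3 : Nat.card F ≤ 3 := by
    have hfixall : ∀ u : V4, aEl u ∈ E → ∀ j : Fin 9, lin (repM (nineK j)) u = u := by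
      intro u hu j
      obtain ⟨y, rfl⟩ := hall j
      obtain ⟨w, hw⟩ := hcode y
      have h1 := ((act_aEl w).mul (act_rep (nineK (code y)))) u
      rw [← hw, hab _ y.2 _ hu, mul_inv_cancel_right, lin_comp, lin_one] at h1
      exact (aEl_inj h1).symm
    have hg : ∀ y : F, ∃ u : {u : V4 // ∀ j : Fin 9, lin (repM (nineK j)) u = u}, aEl u.1 = y.1 := by
      rintro ⟨y, hyE, ⟨u, rfl⟩⟩
      exact ⟨⟨u, hfixall u hyE⟩, rfl⟩
    choose g hg using hg
    have := Nat.card_le_card_of_injective g fun a b h => Subtype.ext (by rw [← hg a, ← hg b, h])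
    refine this.trans ?_
    rw [Nat.card_eq_fintype_card, Fintype.card_subtype]
    exact fixed_all
  have := hsize Finset.univ fun y => Finset.mem_univ _
  rw [Finset.card_univ, Fintype.card_fin] at this
  omega
where
  fixed_all : (Finset.univ.filter fun u : V4 => ∀ j : Fin 9, lin (repM (nineK j)) u = u).card ≤ 3 := by
    decide +kernel

theorem exists_sylow : ∃ S : Sylow 3 PSU4, (S : Subgroup PSU4) = Pbar := by
  haveI : Fact (Nat.Prime 3) := ⟨Nat.prime_three⟩
  obtain ⟨S, hS⟩ := (IsPGroup.of_card (n := 6) (by rw [card_Pbar]; norm_num) : IsPGroup 3 Pbar).exists_le_sylow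
  refine ⟨S, (Subgroup.eq_of_le_of_card_ge hS ?_).symm⟩
  rw [card_Pbar, S.card_eq_multiplicity, card_PSU4, show (3265920 : ℕ) = 3 ^ 6 * 4480 by norm_num,
    Nat.factorization_mul (by norm_num) (by norm_num), Finsupp.add_apply,
    Nat.Prime.factorization_pow Nat.prime_three, Finsupp.single_eq_same,
    Nat.factorization_eq_zero_of_not_dvd (by norm_num : ¬ 3 ∣ 4480)]
  norm_num

/-- All abelian subgroups of order 81 are conjugate. -/
theorem abelian_conj {E : Subgroup PSU4} (hab : ∀ a ∈ E, ∀ b ∈ E, a * b = b * a) (hcard : Nat.card E = 81) :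
    ∃ c : PSU4, E.map (MulAut.conj c).toMonoidHom = Abar := by
  haveI : Fact (Nat.Prime 3) := ⟨Nat.prime_three⟩
  obtain ⟨S, hS⟩ := exists_sylow
  obtain ⟨T, hT⟩ := (IsPGroup.of_card (n := 4) (by rw [hcard]; norm_num) : IsPGroup 3 E).exists_le_sylow
  obtain ⟨c, hc⟩ := MulAction.exists_smul_eq PSU4 T S
  refine ⟨c, abelian_le ?_ ?_ ?_⟩
  · rintro _ ⟨e, he, rfl⟩
    rw [← hS, ← hc]
    exact ⟨e, hT he, rfl⟩
  · rintro _ ⟨a, ha, rfl⟩ _ ⟨b, hb, rfl⟩
    rw [← map_mul, ← map_mul, hab a ha b hb]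
  · rw [Subgroup.card_map_of_injective (MulAut.conj c).injective, hcard]

/-- A transvection. -/
def Tv (x : PSU4) : Prop :=
  ∃ M : SU4, toP M = x ∧ ∃ (a : K9) (u v : Fin 4 → K9),
    a • (M.1 : Matrix (Fin 4) (Fin 4) K9) = 1 + Matrix.vecMulVec u v

theorem Tv.conj {x : PSU4} (h : Tv x) (c : PSU4) : Tv (c * x * c⁻¹) := by
  obtain ⟨M, rfl, a, u, v, he⟩ := h
  obtain ⟨g, rfl⟩ := QuotientGroup.mk'_surjective (Subgroup.center SU4) c
  refine ⟨g * M * g⁻¹, by rw [map_mul, map_mul, map_inv]; rfl, a,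
    (g.1 : Matrix (Fin 4) (Fin 4) K9).mulVec u,
    Matrix.vecMul v ((g⁻¹).1 : Matrix (Fin 4) (Fin 4) K9), ?_⟩
  have hgg : (g.1 : Matrix (Fin 4) (Fin 4) K9) * ((g⁻¹).1 : Matrix (Fin 4) (Fin 4) K9) = 1 := by
    have h1 : ((g * g⁻¹ : SU4).1 : Matrix (Fin 4) (Fin 4) K9) = 1 := by rw [mul_inv_cancel]; rfl
    exact h1
  show a • ((g.1 : Matrix (Fin 4) (Fin 4) K9) * M.1 * (g⁻¹).1) = _
  rw [← Matrix.smul_mul, ← Matrix.mul_smul, he, mul_add, mul_one, add_mul, hgg, Matrix.mul_vecMulVec,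
    Matrix.vecMulVec_mul]

theorem dec_surj : ∀ a : K9, ∃ c : Fin 9, dec c.val = a := by decide +kernel

theorem Tv.test {w : List Nat} (h : Tv (pw w)) : tvC (Mats.codeW w) = true := by
  obtain ⟨M, hM, a, u, v, he⟩ := h
  rw [pw, ev_LP] at hM
  obtain ⟨zc, hz, rfl⟩ : ∃ zc ∈ Subgroup.center SU4, ev Mats.LS w * zc = M :=
    ⟨(ev Mats.LS w)⁻¹ * M, QuotientGroup.eq.1 hM.symm, by group⟩
  obtain ⟨b, hb⟩ := (CfsgLib.Unitary.mem_center_SU_iff CfsgLib.J2.Perm.hF (by norm_num)).1 hz
  obtain ⟨c, hc⟩ := dec_surj (a * b)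
  have hent : ∀ i k : Fin 4, dec (shEnt (Mats.codeW w) c.val i.val k.val) = u i * v k := by
    intro i k
    have h1 := congrFun (congrFun he i) k
    rw [show ((ev Mats.LS w * zc : SU4).1 : Matrix (Fin 4) (Fin 4) K9) =
        (ev Mats.LS w).1 * (zc.1 : Matrix (Fin 4) (Fin 4) K9) from rfl, hb, Matrix.mul_smul, mul_one,
      smul_smul, Mats.ev_code, Matrix.smul_apply, Matrix.add_apply, Matrix.vecMulVec_apply,
      Matrix.one_apply] at h1
    have hmone : dec 2 = -1 := by decide +kernel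
    rw [shEnt, Cfsg.Agent.McLU43.dec_add (Cfsg.Agent.McLU43.fmul_lt _ _) (by split <;> norm_num),
      Cfsg.Agent.McLU43.dec_mul c.isLt (Mats.ent_lt _ _ _), hc]
    have h2 : a * b * dec (Mats.ent (Mats.codeW w) i.val k.val) =
        (if i = k then (1 : K9) else 0) + u i * v k := h1
    rw [h2]
    by_cases hik : i = k
    · subst hik; rw [if_pos rfl, if_pos rfl, hmone]; ring
    · rw [if_neg hik, if_neg (fun e => hik (Fin.ext e)), Cfsg.Agent.McLU43.dec_zero]; ring
  simp only [tvC, List.any_eq_true, List.all_eq_true, List.mem_range, beq_iff_eq]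
  refine ⟨c.val, c.isLt, fun i hi j hj k hk m hm => ?_⟩
  refine Cfsg.Agent.McLU43.dec_inj (Cfsg.Agent.McLU43.fmul_lt _ _) (Cfsg.Agent.McLU43.fmul_lt _ _) ?_
  have hlt : ∀ a b : Nat, shEnt (Mats.codeW w) c.val a b < 9 := fun a b => Cfsg.Agent.McLU43.fadd_lt _ _
  rw [Cfsg.Agent.McLU43.dec_mul (hlt _ _) (hlt _ _), Cfsg.Agent.McLU43.dec_mul (hlt _ _) (hlt _ _),
    hent ⟨i, hi⟩ ⟨k, hk⟩, hent ⟨j, hj⟩ ⟨m, hm⟩, hent ⟨i, hi⟩ ⟨m, hm⟩, hent ⟨j, hj⟩ ⟨k, hk⟩]
  ring

theorem tv_letters : Tv (pw [2]) ∧ Tv (pw [3]) := by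
  constructor
  · refine ⟨ev Mats.LS [2], by rw [pw, ev_LP], dec 6, ![dec 3, dec 0, dec 1, dec 2],
      ![dec 1, dec 0, dec 3, dec 6], ?_⟩
    rw [Mats.ev_code]
    decide +kernel
  · refine ⟨ev Mats.LS [3], by rw [pw, ev_LP], dec 3, ![dec 6, dec 0, dec 2, dec 1],
      ![dec 1, dec 0, dec 3, dec 6], ?_⟩
    rw [Mats.ev_code]
    decide +kernel

/-- The transvections of the subgroup lie on the ten lines. -/
theorem tv_cases {v : V4} (h : Tv (aEl v)) (hv : v ≠ 0) : ∃ i : Fin 10, v = lineV i ∨ v = -lineV i :=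
  tv_lines v hv (by rw [← pw_aW] at h; exact h.test)

/-- Every element of the subgroup is conjugate into the centraliser of the involution. -/
theorem exists_comm (v : V4) : ∃ c : PSU4,
    c * aEl v * c⁻¹ * pw [0, 0] = pw [0, 0] * (c * aEl v * c⁻¹) := by
  by_cases hv : v = 0
  · exact ⟨1, by rw [hv, aEl_zero]; simp⟩
  obtain ⟨p, hp, k, hk⟩ := orbits v hv
  refine ⟨pw p.2 * (rep k)⁻¹, ?_⟩
  have h1 := pw_eq (orb_comm p hp)
  simp only [pw_append, pw_iW, pw_aW] at h1
  have h2 : pw p.2 * (rep k)⁻¹ * aEl v * (pw p.2 * (rep k)⁻¹)⁻¹ = pw p.2 * aEl p.1 * (pw p.2)⁻¹ := by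
    rw [← hk, ← act_rep k p.1]; group
  rw [h2]; exact h1

end CfsgLib.SuzEleven
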