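import Cfsg.Agent.SuzEleven.Elem

/-!
The normaliser of the subgroup of order `3 ^ 5`: the eleven subgroups generated by conjugates of the
element of order three, transitivity and orders.
-/

set_option autoImplicit false
set_option linter.style.haveILetI false
set_option maxRecDepth 100000

namespace CfsgLib.SuzEleven

open CfsgLib CfsgLib.SuzInvol CfsgLib.U43Type CfsgLib.SuzThree Subgroup
open Cfsg.Agent.McLU43 (K9)

local notation "PSU4" => Cfsg.PSU 4 K9 3

variable {G : Type*} [Group G] [Finite G] {z : G} {D : Dat z} {y : G}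
variable {T : Three D y} {π : cX y →* PSU4} (P : Pi T π)
include P

theorem Pi.abelian {a b : G} (ha : a ∈ cA π) (hb : b ∈ cA π) : a * b = b * a :=
  congrArg Subtype.val (P.elementary.1.1.comm (⟨a, ha⟩ : cA π) ⟨b, hb⟩)

theorem Pi.centralizer_cA : centralizer (cA π : Set G) = cA π := by
  refine le_antisymm (fun c hc => ?_) fun a ha => mem_centralizer_iff.2 fun b hb => P.abelian hb ha
  have hcX : c ∈ cX y := mem_cX.2 (mem_centralizer_iff.1 hc y P.y_cA).symm
  refine mem_cA.2 ⟨hcX, centralizer_Abar fun a ha => ?_⟩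
  obtain ⟨x, rfl⟩ := P.surj a
  rw [← map_mul, ← map_mul]
  exact congrArg π (Subtype.ext (mem_centralizer_iff.1 hc x (mem_cA.2 ⟨x.2, ha⟩)).symm)

/-- The normaliser inside the centraliser. -/
theorem Pi.normalizer_inf :
    cX y ⊓ normalizer (cA π : Set G) = ((normalizer (Abar : Set PSU4)).comap π).map (cX y).subtype := by
  ext x
  constructor
  · rintro ⟨hx, hn⟩
    refine ⟨⟨x, hx⟩, ?_, rfl⟩
    rw [SetLike.mem_coe, mem_comap, mem_normalizer_iff]
    intro a
    obtain ⟨b, rfl⟩ := P.surj a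
    rw [← map_inv, ← map_mul, ← map_mul]
    have h := (mem_normalizer_iff.1 hn) (b : G)
    constructor
    · intro hb
      obtain ⟨h', h''⟩ := mem_cA.1 (h.1 (mem_cA.2 ⟨b.2, hb⟩))
      exact h''
    · intro hb
      obtain ⟨h', h''⟩ := mem_cA.1 (h.2 (mem_cA.2 ⟨mul_mem (mul_mem hx b.2) (inv_mem hx), hb⟩))
      exact h''
  · rintro ⟨x, hx, rfl⟩
    refine ⟨x.2, ?_⟩
    rw [SetLike.mem_coe, mem_comap, mem_normalizer_iff] at hx
    show (x : G) ∈ normalizer (cA π : Set G)
    rw [mem_normalizer_iff]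
    intro a
    rw [mem_cA, mem_cA]
    constructor
    · rintro ⟨ha, h⟩
      refine ⟨mul_mem (mul_mem x.2 ha) (inv_mem x.2), ?_⟩
      have := (hx _).1 h
      rwa [← map_inv, ← map_mul, ← map_mul] at this
    · rintro ⟨ha, h⟩
      have ha' : a ∈ cX y := by
        have := mul_mem (mul_mem (inv_mem x.2) ha) x.2
        simpa [mul_assoc] using this
      refine ⟨ha', (hx _).2 ?_⟩
      rw [← map_inv, ← map_mul, ← map_mul]
      exact h

theorem Pi.card_normalizer_inf : Nat.card ↥(cX y ⊓ normalizer (cA π : Set G)) = 87480 := by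
  rw [P.normalizer_inf, P.card_comap, card_normalizer]

/-- An abelian subgroup of the same order containing the element is conjugate in the centraliser. -/
theorem Pi.conj_abelian {E : Subgroup G} (hab : ∀ a ∈ E, ∀ b ∈ E, a * b = b * a) (hy : y ∈ E)
    (hcard : Nat.card E = 243) : ∃ c ∈ cX y, ∀ a ∈ E, c * a * c⁻¹ ∈ cA π := by
  have hE : E ≤ cX y := fun a ha => mem_cX.2 (hab a ha y hy)
  set f : E →* PSU4 := π.comp (Subgroup.inclusion hE) with hf
  have hker : Nat.card f.ker = 3 := by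
    haveI : Fact (Nat.Prime 3) := ⟨Nat.prime_three⟩
    have h : f.ker.map E.subtype = zpowers y := by
      ext x
      constructor
      · rintro ⟨a, ha, rfl⟩; exact (P.ker _).1 ha
      · intro hx
        have hxE : x ∈ E := by
          obtain ⟨n, rfl⟩ := mem_zpowers_iff.1 hx
          exact zpow_mem hy n
        exact ⟨⟨x, hxE⟩, (P.ker _).2 hx, rfl⟩
    rw [← card_map_of_injective E.subtype_injective, h, Nat.card_zpowers, orderOf_eq_prime T.three T.ne_one]
  have hrange : Nat.card f.range = 81 := by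
    have h := card_eq_card_quotient_mul_card_subgroup f.ker
    rw [Nat.card_congr (QuotientGroup.quotientKerEquivRange f).toEquiv, hker, hcard] at h
    omega
  obtain ⟨c, hc⟩ := abelian_conj (E := f.range) (by
    rintro _ ⟨a, rfl⟩ _ ⟨b, rfl⟩
    rw [← map_mul, ← map_mul]
    exact congrArg f (Subtype.ext (hab _ a.2 _ b.2))) hrange
  obtain ⟨c, rfl⟩ := P.surj c
  refine ⟨c, c.2, fun a ha => mem_cA.2 ⟨mul_mem (mul_mem c.2 (hE ha)) (inv_mem c.2), ?_⟩⟩
  rw [← hc]
  refine ⟨f ⟨a, ha⟩, ⟨_, rfl⟩, ?_⟩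
  show π c * π ⟨a, hE ha⟩ * (π c)⁻¹ = _
  rw [← map_inv, ← map_mul, ← map_mul]
  rfl

/-- An element moving a conjugate of the element back to it, adjusted to normalise the subgroup. -/
theorem Pi.exists_back {k : G} (hk : k * y * k⁻¹ ∈ cA π) :
    ∃ n ∈ normalizer (cA π : Set G), n * (k * y * k⁻¹) * n⁻¹ = y := by
  have hmem : ∀ a ∈ (cA π).map (MulAut.conj k⁻¹).toMonoidHom, ∃ b ∈ cA π, a = k⁻¹ * b * k := by
    rintro _ ⟨b, hb, rfl⟩; exact ⟨b, hb, by simp⟩
  obtain ⟨c, hc, hcE⟩ := P.conj_abelian (E := (cA π).map (MulAut.conj k⁻¹).toMonoidHom)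
    (by rintro _ ⟨a, ha, rfl⟩ _ ⟨b, hb, rfl⟩; rw [← map_mul, ← map_mul, P.abelian ha hb])
    ⟨_, hk, by simp [mul_assoc]⟩
    (by rw [card_map_of_injective (MulAut.conj k⁻¹).injective, P.card_cA])
  have hfwd : ∀ a ∈ cA π, (c * k⁻¹) * a * (c * k⁻¹)⁻¹ ∈ cA π := fun a ha => by
    have := hcE _ ⟨a, ha, rfl⟩
    simpa [mul_assoc] using this
  have himg : (cA π).map (MulAut.conj (c * k⁻¹)).toMonoidHom = cA π := by
    refine eq_of_le_of_card_ge ?_ (le_of_eq (card_map_of_injective (MulAut.conj (c * k⁻¹)).injective).symm)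
    rintro _ ⟨a, ha, rfl⟩
    exact hfwd a ha
  refine ⟨c * k⁻¹, mem_normalizer_iff.2 fun a => ⟨hfwd a, fun ha => ?_⟩, ?_⟩
  · rw [← himg] at ha
    obtain ⟨b, hb, e⟩ := ha
    obtain rfl : b = a := (MulAut.conj (c * k⁻¹)).injective e
    exact hb
  · calc c * k⁻¹ * (k * y * k⁻¹) * (c * k⁻¹)⁻¹ = c * y * c⁻¹ := by group
      _ = y := by rw [mem_cX.1 hc, mul_inv_cancel_right]

/-- An element of the normaliser inverting the element. -/
theorem Pi.exists_flip : ∃ n ∈ normalizer (cA π : Set G), n * y * n⁻¹ = y⁻¹ := by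
  obtain ⟨w, hw⟩ := exists_w T
  obtain ⟨n, hn, e⟩ := P.exists_back (k := w) (by rw [hw]; exact inv_mem P.y_cA)
  refine ⟨n, hn, ?_⟩
  rw [hw] at e
  rw [← inv_inj, inv_inv, conj_inv]
  exact e

/-- The ten conjugates outside the powers, one on each line. -/
theorem Pi.exists_lines : ∃ g : Fin 10 → cX y,
    (∀ i, IsA y (g i : G) ∧ π (g i) = aEl (lineV i) ∧ (g i : G) ∈ cA π) ∧
    ∀ x : cX y, (x : G) ∈ cA π → IsA y (x : G) → (x : G) ∉ zpowers y →
      ∃ i, (x : G) = g i ∨ (x : G) = (g i : G)⁻¹ := by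
  have : ∀ i, ∃ g : cX y, IsA y (g : G) ∧ π g = aEl (lineV i) := fun i => P.exists_orbit (tenK i)
  choose g hg using this
  refine ⟨g, fun i => ⟨(hg i).1, (hg i).2, P.mem_cA_of (hg i).2⟩, fun x hx hA hne => ?_⟩
  obtain ⟨hxX, v, hv⟩ := mem_cA.1 hx
  have hne1 : π x ≠ 1 := fun h => hne ((P.ker x).1 h)
  have hv0 : v ≠ 0 := fun h => hne1 (by rw [h, aEl_zero] at hv; exact hv.symm)
  have ht := P.tv_of_isA hx hA hne
  have hv' : π x = aEl v := hv.symm
  rw [hv'] at ht
  obtain ⟨i, rfl | rfl⟩ := tv_cases ht hv0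
  · exact ⟨i, Or.inl (P.isA_ext hx hA (hg i).1 hne1 (hv'.trans (hg i).2.symm))⟩
  · exact ⟨i, Or.inr (P.isA_ext (g' := (g i)⁻¹) hx hA ((hg i).1.inv T) hne1
      (by rw [map_inv, (hg i).2, ← aEl_neg]; exact hv'))⟩

omit [Finite G] P in
theorem zpowers_cases {g x : G} (h3 : g ^ 3 = 1) (h1 : x ≠ 1) (hx : x ∈ zpowers g) : x = g ∨ x = g⁻¹ := by
  obtain ⟨n, rfl⟩ := mem_zpowers_iff.1 hx
  have h3' : g ^ (3 : ℤ) = 1 := by exact_mod_cast h3
  have e : g ^ n = g ^ (n % 3) := by
    conv_lhs => rw [← Int.emod_add_mul_ediv n 3, zpow_add, zpow_mul, h3', one_zpow, mul_one]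
  have hr : n % 3 = 0 ∨ n % 3 = 1 ∨ n % 3 = 2 := by omega
  rw [e] at h1 ⊢
  rcases hr with hr | hr | hr <;> rw [hr] at h1 ⊢
  · exact absurd (zpow_zero g) h1
  · exact Or.inl (zpow_one g)
  · refine Or.inr (eq_inv_of_mul_eq_one_left ?_)
    rw [← zpow_add_one]; exact h3'

/-- Inversion or centralisation. -/
theorem Pi.mem_normalizer_y {n : G} :
    n ∈ normalizer ((zpowers y : Subgroup G) : Set G) ↔ n * y * n⁻¹ = y ∨ n * y * n⁻¹ = y⁻¹ := by
  constructor
  · intro h
    exact zpowers_cases T.three (fun e => T.ne_one (conj_eq_one_iff.1 e))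
      ((mem_normalizer_iff.1 h y).1 (mem_zpowers y))
  · intro h
    have hmap : (zpowers y).map (MulAut.conj n).toMonoidHom = zpowers y := by
      rw [MonoidHom.map_zpowers]
      show zpowers (n * y * n⁻¹) = _
      rcases h with h | h <;> rw [h]
      rw [zpowers_inv]
    refine mem_normalizer_iff.2 fun a => ⟨fun ha => ?_, fun ha => ?_⟩
    · rw [← hmap]; exact ⟨a, ha, rfl⟩
    · rw [← hmap] at ha
      obtain ⟨b, hb, e⟩ := ha
      obtain rfl : b = a := (MulAut.conj n).injective e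
      exact hb

/-- The subgroup has index two. -/
theorem Pi.card_stab : Nat.card ↥(normalizer (cA π : Set G) ⊓ normalizer ((zpowers y : Subgroup G) : Set G)) =
    174960 := by
  classical
  obtain ⟨w, hwA, hwy⟩ := P.exists_flip
  have hy2 : y ≠ y⁻¹ := fun h => T.ne_one (by
    have h2 : y * y = 1 := by nth_rewrite 2 [h]; exact mul_inv_cancel y
    have := T.three
    rwa [pow_succ, pow_two, h2, one_mul] at this)
  have hinv : ∀ x : G, x ∈ cX y → x * y⁻¹ * x⁻¹ = y⁻¹ := fun x hx => by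
    rw [← conj_inv, mem_cX.1 hx, mul_inv_cancel_right]
  have hmem : ∀ p : ↥(cX y ⊓ normalizer (cA π : Set G)) × Bool,
      (if p.2 then (p.1 : G) * w else (p.1 : G)) ∈
        normalizer (cA π : Set G) ⊓ normalizer ((zpowers y : Subgroup G) : Set G) := by
    rintro ⟨⟨x, hxX, hxA⟩, b⟩
    refine ⟨?_, P.mem_normalizer_y.2 ?_⟩
    · cases b
      · exact hxA
      · exact mul_mem hxA hwA
    · cases b
      · left; show x * y * x⁻¹ = y; rw [mem_cX.1 hxX, mul_inv_cancel_right]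
      · right
        show x * w * y * (x * w)⁻¹ = y⁻¹
        rw [show x * w * y * (x * w)⁻¹ = x * (w * y * w⁻¹) * x⁻¹ by group, hwy, hinv x hxX]
  let f : ↥(cX y ⊓ normalizer (cA π : Set G)) × Bool →
      ↥(normalizer (cA π : Set G) ⊓ normalizer ((zpowers y : Subgroup G) : Set G)) := fun p => ⟨_, hmem p⟩
  have hf : Function.Bijective f := by
    constructor
    · rintro ⟨⟨x, hxX, hxA⟩, b⟩ ⟨⟨x', hx'X, hx'A⟩, b'⟩ h
      have h' : (if b then x * w else x) = (if b' then x' * w else x') := congrArg Subtype.val h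
      have bad : ∀ u v : G, u ∈ cX y → v ∈ cX y → u * w ≠ v := fun u v hu hv e => hy2 (by
        have e1 : v * y * v⁻¹ = y⁻¹ := by
          rw [← e, show u * w * y * (u * w)⁻¹ = u * (w * y * w⁻¹) * u⁻¹ by group, hwy, hinv u hu]
        rwa [mem_cX.1 hv, mul_inv_cancel_right] at e1)
      cases b <;> cases b'
      · exact Prod.ext (Subtype.ext h') rfl
      · exact absurd h'.symm (bad x' x hx'X hxX)
      · exact absurd h' (bad x x' hxX hx'X)
      · exact Prod.ext (Subtype.ext (mul_right_cancel h')) rfl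
    · rintro ⟨x, hxA, hxY⟩
      rcases P.mem_normalizer_y.1 hxY with h | h
      · exact ⟨(⟨x, mem_cX.2 (mul_inv_eq_iff_eq_mul.1 h), hxA⟩, false), rfl⟩
      · refine ⟨(⟨x * w⁻¹, mem_cX.2 ?_, (normalizer (cA π : Set G)).mul_mem hxA ((normalizer (cA π : Set G)).inv_mem hwA)⟩, true), Subtype.ext ?_⟩
        · have e : w⁻¹ * y * w = y⁻¹ := by
            rw [← inv_inj, inv_inv, conj_inv] at hwy
            calc w⁻¹ * y * w = w⁻¹ * (w * y⁻¹ * w⁻¹) * w := by rw [hwy]
              _ = y⁻¹ := by group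
          calc x * w⁻¹ * y = x * (w⁻¹ * y * w) * w⁻¹ := by group
            _ = (x * y * x⁻¹)⁻¹ * (x * w⁻¹) := by rw [e]; group
            _ = y * (x * w⁻¹) := by rw [h, inv_inv]
        · show x * w⁻¹ * w = x
          rw [inv_mul_cancel_right]
  rw [← Nat.card_congr (Equiv.ofBijective f hf), Nat.card_prod, P.card_normalizer_inf]
  simp

end CfsgLib.SuzEleven
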