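import Cfsg.Agent.SuzEleven.Model
import Cfsg.Agent.SuzEleven.Local
import Cfsg.Agent.U43Type.RootComm

/-!
The centraliser of the element of order three mapped onto the explicit unitary group.
-/

set_option autoImplicit false
set_option linter.style.haveILetI false
set_option maxRecDepth 100000

namespace CfsgLib.SuzEleven

open CfsgLib CfsgLib.SuzInvol CfsgLib.U43Type CfsgLib.SuzThree Subgroup
open Cfsg.Agent.McLU43 (K9)

local notation "PSU4" => Cfsg.PSU 4 K9 3

variable {G : Type*} [Group G] [Finite G] {z : G} {D : Dat z} {y : G}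

/-- The centraliser of the element. -/
abbrev cX (y : G) : Subgroup G := centralizer ((zpowers y : Subgroup G) : Set G)

omit [Finite G] in
theorem mem_cX {x : G} : x ∈ cX y ↔ x * y = y * x := by
  rw [cX, zpowers_eq_closure, centralizer_closure, mem_centralizer_singleton_iff]

/-- The map onto the unitary group. -/
structure Pi (T : Three D y) (π : cX y →* PSU4) : Prop where
  surj : Function.Surjective π
  ker : ∀ x, π x = 1 ↔ (x : G) ∈ zpowers y
  zconj : ∃ (hz : z ∈ cX y) (d : PSU4), π ⟨z, hz⟩ = d * pw [0, 0] * d⁻¹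
  cls : ∀ x ∈ cX y, x * x = 1 → x ≠ 1 → ∃ c ∈ cX y, c * x * c⁻¹ = z
  factor : ∀ g : cX y, (g : G) ∈ Kc T → (g : G) ^ 3 = 1 → (g : G) ∉ zpowers y →
    (∃ q q' : G, q ∈ D.Q ∧ q ∈ Kc T ∧ q' ∈ D.Q ∧ q' ∈ Kc T ∧ (g : G) * q = q * g ∧ (g : G) * q' = q' * g ∧
      q * q' ≠ q' * q) →
    ∃ c : PSU4, π g = c * pw [2] * c⁻¹ ∨ π g = c * pw [3] * c⁻¹

theorem Pi.transform {T : Three D y} {π : cX y →* PSU4} (P : Pi T π) (d₀ : PSU4) :
    Pi T ((MulAut.conj d₀).toMonoidHom.comp π) where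
  surj := (MulAut.conj d₀).surjective.comp P.surj
  ker x := by
    rw [← P.ker]
    exact (MulAut.conj d₀).map_eq_one_iff
  zconj := by
    obtain ⟨hz, d, hd⟩ := P.zconj
    refine ⟨hz, d₀ * d, ?_⟩
    show d₀ * π ⟨z, hz⟩ * d₀⁻¹ = _
    rw [hd]; group
  cls := P.cls
  factor g h1 h2 h3 h4 := by
    obtain ⟨c, hc⟩ := P.factor g h1 h2 h3 h4
    refine ⟨d₀ * c, hc.imp (fun e => ?_) (fun e => ?_)⟩ <;>
      (show d₀ * π g * d₀⁻¹ = _; rw [e]; group)

omit [Finite G] in
theorem range_le_of_pair {H : Type*} [Group H] [Finite H] {zb : H} {φ φ' : SL × SL →* H} {s i : H}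
    (P₀ : Pair zb φ) (L : Loc zb φ' s i) :
    (∀ g ∈ centralizer ({zb} : Set H), g ^ 3 = 1 → g ∈ φ'.range) ∧ ∀ p, φ p ∈ φ'.range := by
  have hin : ∀ g : H, g ∈ Subgroup.centralizer ({zb} : Set H) → g ^ 3 = 1 → g ∈ φ'.range := by
    intro g hg h3
    set C := Subgroup.centralizer ({zb} : Set H) with hC
    set N := φ'.range.subgroupOf C with hN
    haveI : N.Normal := ⟨by
      rintro ⟨x, hx⟩ hxN ⟨c, hc⟩
      obtain ⟨p, hp⟩ := Subgroup.mem_subgroupOf.1 hxN
      rw [Subgroup.mem_subgroupOf]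
      show c * x * c⁻¹ ∈ φ'.range
      rw [← show φ' p = x from hp]
      exact L.P.normal c hc p⟩
    have hidx : N.index = 4 := by
      have hle : φ'.range ≤ C := by rintro _ ⟨p, rfl⟩; exact L.P.mem p
      have h := Subgroup.card_mul_index N
      rw [Nat.card_congr (Subgroup.subgroupOfEquivOfLe hle).toEquiv, L.P.card_range, L.P.cardC] at h
      omega
    have h4 := Subgroup.pow_index_mem N (⟨g, hg⟩ : C)
    rw [hidx, Subgroup.mem_subgroupOf] at h4
    have e : g ^ 4 = g := by rw [pow_succ, h3, one_mul]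
    simpa [e] using h4
  refine ⟨hin, ?_⟩
  have h1 : ∀ A : SL, A ^ 3 = 1 → φ (A, 1) ∈ φ'.range ∧ φ (1, A) ∈ φ'.range := fun A hA =>
    ⟨hin _ (P₀.mem _) (by rw [← map_pow, Prod.pow_mk, hA, one_pow]; exact map_one φ),
      hin _ (P₀.mem _) (by rw [← map_pow, Prod.pow_mk, hA, one_pow]; exact map_one φ)⟩
  obtain ⟨g1, g2⟩ := three_gens
  rintro ⟨A, B⟩
  have hA : ∀ A : SL, φ (A, 1) ∈ φ'.range ∧ φ (1, A) ∈ φ'.range := by
    intro A
    obtain ⟨i, j, k, l, rfl⟩ := threes_generate A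
    have e1 : ∀ x y : SL, φ (x * y, 1) = φ (x, 1) * φ (y, 1) := fun x y => by rw [← map_mul]; simp
    have e2 : ∀ x y : SL, φ (1, x * y) = φ (1, x) * φ (1, y) := fun x y => by rw [← map_mul]; simp
    have hp : ∀ (x : SL) (n : ℕ), x ^ 3 = 1 → φ (x ^ n, 1) ∈ φ'.range ∧ φ (1, x ^ n) ∈ φ'.range :=
      fun x n hx => h1 _ (by rw [← pow_mul, mul_comm, pow_mul, hx, one_pow])
    refine ⟨?_, ?_⟩
    · rw [e1, e1, e1]
      exact mul_mem (mul_mem (mul_mem (hp _ _ g1).1 (hp _ _ g2).1) (hp _ _ g1).1) (hp _ _ g2).1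
    · rw [e2, e2, e2]
      exact mul_mem (mul_mem (mul_mem (hp _ _ g1).2 (hp _ _ g2).2) (hp _ _ g1).2) (hp _ _ g2).2
  rw [show ((A, B) : SL × SL) = (A, 1) * (1, B) by simp, map_mul]
  exact mul_mem (hA A).1 (hA B).2

omit [Finite G] in
/-- An isomorphism with the explicit group sending words to words. -/
theorem exists_iso {H : Type*} [Group H] [Finite H] {zb : H} {φ' : SL × SL →* H} {s i : H}
    (L : Loc zb φ' s i) : ∃ (r : H) (e : H ≃* PSU4),
      ∀ w, e (Coset.ev (LX (φ' (a₀, 1)) (φ' (h₀, 1)) s i r) w) = pw w := by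
  classical
  obtain ⟨r, R⟩ := L.exists_rdata
  obtain ⟨X', -, -, hback, -⟩ := L.iso_closure R
  obtain ⟨e₀⟩ := L.iso
  set L' := LX (φ' (a₀, 1)) (φ' (h₀, 1)) s i r with hL'
  set LL := LC (φ' (a₀, 1)) (φ' (h₀, 1)) s i with hLL
  set K₀ := closure {x : H | x ∈ L'} with hK₀
  have hevK : ∀ w, Coset.ev L' w ∈ K₀ := fun w => by
    rw [Coset.ev]
    refine list_prod_mem fun x hx => ?_
    obtain ⟨l, -, rfl⟩ := List.mem_map.1 hx
    exact Coset.mem_closure_fl l
  have hC : centralizer ({zb} : Set H) ≤ K₀ := by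
    rw [← L.K.gen]
    exact closure_mono fun x hx => by
      simp only [LC, LX, Set.mem_setOf_eq, List.mem_cons, List.not_mem_nil, or_false, hL'] at hx ⊢
      tauto
  have hrC : r ∉ centralizer ({zb} : Set H) := by
    intro hr
    have h1 := R.rz
    rw [mem_centralizer_singleton_iff.1 hr, mul_inv_cancel_right] at h1
    exact L.zs_ne.2.1 (mul_left_cancel (h1.symm.trans (mul_one zb).symm))
  have hord : ∀ (p : ℕ) [Fact p.Prime] (w v : List Nat), (∀ l ∈ v, l < 7) → w = v ++ [7] →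
      Mats.isScal (Mats.codeW (List.replicate p w).flatten) = true → p ∣ Nat.card K₀ := by
    intro p _ w v hv hw hs
    have hpow : ∀ k, Coset.ev L' (List.replicate k w).flatten = Coset.ev L' w ^ k := by
      intro k
      induction k with
      | zero => rw [List.replicate_zero, List.flatten_nil, Coset.ev_nil, pow_zero]
      | succ k ih => rw [List.replicate_succ, List.flatten_cons, Coset.ev_append, ih, pow_succ']
    have h1 : Coset.ev L' w ^ p = 1 := by
      rw [← hpow]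
      exact hback _ (by rw [ev_LP]; exact (QuotientGroup.eq_one_iff _).2 (Mats.central_of_scal hs))
    have h2 : Coset.ev L' w ≠ 1 := by
      intro e
      rw [hw, Coset.ev_append, show Coset.ev L' [7] = r by simp [hL', LX, Coset.ev_cons, Coset.ev_nil, Coset.fl]] at e
      refine hrC ?_
      rw [eq_inv_of_mul_eq_one_right e]
      refine inv_mem ?_
      rw [Coset.ev]
      refine list_prod_mem fun x hx => ?_
      obtain ⟨l, hl, rfl⟩ := List.mem_map.1 hx
      have hm : Coset.fl LL l ∈ centralizer ({zb} : Set H) := by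
        rw [← L.K.gen]; exact Coset.mem_closure_fl _
      have hl7 := hv l hl
      interval_cases l <;> exact hm
    rw [← orderOf_eq_prime h1 h2]
    exact orderOf_dvd_natCard K₀ (hevK w)
  haveI : Fact (Nat.Prime 5) := ⟨by norm_num⟩
  haveI : Fact (Nat.Prime 7) := ⟨by norm_num⟩
  obtain ⟨p5, -, p7, -⟩ := Mats.power_facts
  have h5 : 5 ∣ Nat.card K₀ := hord 5 Mats.fiveW [0, 2, 4, 2] (by decide) rfl p5
  have h7 : 7 ∣ Nat.card K₀ := hord 7 Mats.sevenW [0, 4, 2] (by decide) rfl p7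
  have hd : 1152 ∣ Nat.card K₀ := L.P.cardC ▸ card_dvd_of_le hC
  have hcard : Nat.card H = 3265920 := by rw [Nat.card_congr e₀.toEquiv, card_PSU4]
  have htop : K₀ = ⊤ := by
    by_contra hne
    have hne' : K₀.map e₀.toMonoidHom ≠ ⊤ := by
      intro h
      refine hne (eq_top_iff.2 fun x _ => ?_)
      have hx : e₀ x ∈ K₀.map e₀.toMonoidHom := by rw [h]; exact mem_top _
      obtain ⟨t, ht, e⟩ := hx
      exact e₀.injective e ▸ ht
    have h112 := CfsgLib.MinIdxPSU.psu_four_three CfsgLib.J2.Perm.hF _ hne'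
    have hc1 : Nat.card (K₀.map e₀.toMonoidHom) = Nat.card K₀ := card_map_of_injective e₀.injective
    have hm := card_mul_index (K₀.map e₀.toMonoidHom)
    rw [hc1, card_PSU4] at hm
    obtain ⟨k, hk⟩ : 40320 ∣ Nat.card K₀ := Nat.Coprime.mul_dvd_of_dvd_of_dvd (by norm_num : Nat.Coprime 1152 35)
      hd (Nat.Coprime.mul_dvd_of_dvd_of_dvd (by norm_num : Nat.Coprime 5 7) h5 h7)
    rw [hk, mul_assoc] at hm
    have h81 : k * (K₀.map e₀.toMonoidHom).index = 81 := by omega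
    have := Nat.le_of_dvd (by norm_num) (Dvd.intro_left _ h81)
    omega
  let LQ : List (H × PSU4) :=
    LX (φ' (a₀, 1), toP (Mats.gen 0)) (φ' (h₀, 1), toP (Mats.gen 2)) (s, toP (Mats.gen 4))
      (i, toP (Mats.gen 5)) (r, toP (Mats.gen 7))
  have hf1 : ∀ w, (Coset.ev LQ w).1 = Coset.ev L' w := fun w => by
    have := ev_hom (MonoidHom.fst H PSU4) LQ w
    rw [map_LX] at this
    exact this
  have hf2 : ∀ w, (Coset.ev LQ w).2 = pw w := fun w => by
    have := ev_hom (MonoidHom.snd H PSU4) LQ w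
    rw [map_LX] at this
    exact this
  set K := closure {x : H × PSU4 | x ∈ LQ} with hK
  have hword : ∀ p ∈ K, ∃ w, Coset.ev LQ w = p := by
    intro p hp
    have hp' : p ∈ (closure {x : H × PSU4 | x ∈ LQ}).toSubmonoid := hp
    rw [closure_toSubmonoid_of_finite] at hp'
    clear hp
    induction hp' using Submonoid.closure_induction with
    | mem x hx =>
      obtain ⟨l, hl⟩ := List.get_of_mem (show x ∈ LQ from hx)
      refine ⟨[l.val], ?_⟩
      rw [Coset.ev_cons, Coset.ev_nil, mul_one, ← hl]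
      simp [Coset.fl, List.getD_eq_getElem?_getD]
    | one => exact ⟨[], Coset.ev_nil _⟩
    | mul a b _ _ iha ihb =>
      obtain ⟨u, rfl⟩ := iha
      obtain ⟨v, rfl⟩ := ihb
      exact ⟨u ++ v, Coset.ev_append _ _ _⟩
  have hevQ : ∀ w, Coset.ev LQ w ∈ K := fun w => by
    rw [Coset.ev]
    refine list_prod_mem fun x hx => ?_
    obtain ⟨l, -, rfl⟩ := List.mem_map.1 hx
    exact Coset.mem_closure_fl l
  let g1 : K →* H := (MonoidHom.fst H PSU4).comp K.subtype
  let g2 : K →* PSU4 := (MonoidHom.snd H PSU4).comp K.subtype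
  have h1surj : Function.Surjective g1 := by
    rw [← MonoidHom.range_eq_top, ← htop]
    rw [MonoidHom.range_comp, Subgroup.range_subtype, hK, MonoidHom.map_closure, hK₀]
    congr 1
    ext x
    simp only [Set.mem_image, Set.mem_setOf_eq, LQ, LX, List.mem_cons, List.not_mem_nil, or_false, hL']
    constructor
    · rintro ⟨p, hp, rfl⟩
      rcases hp with rfl | rfl | rfl | rfl | rfl | rfl | rfl | rfl | rfl <;> simp
    · rintro (rfl | rfl | rfl | rfl | rfl | rfl | rfl | rfl | rfl)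
      · exact ⟨_, Or.inl rfl, rfl⟩
      · exact ⟨_, Or.inr (Or.inl rfl), rfl⟩
      · exact ⟨_, Or.inr (Or.inr (Or.inl rfl)), rfl⟩
      · exact ⟨_, Or.inr (Or.inr (Or.inr (Or.inl rfl))), rfl⟩
      · exact ⟨_, Or.inr (Or.inr (Or.inr (Or.inr (Or.inl rfl)))), rfl⟩
      · exact ⟨_, Or.inr (Or.inr (Or.inr (Or.inr (Or.inr (Or.inl rfl))))), rfl⟩
      · exact ⟨_, Or.inr (Or.inr (Or.inr (Or.inr (Or.inr (Or.inr (Or.inl rfl)))))), rfl⟩
      · exact ⟨_, Or.inr (Or.inr (Or.inr (Or.inr (Or.inr (Or.inr (Or.inr (Or.inl rfl))))))), rfl⟩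
      · exact ⟨_, Or.inr (Or.inr (Or.inr (Or.inr (Or.inr (Or.inr (Or.inr (Or.inr rfl))))))), rfl⟩
  have h2inj : Function.Injective g2 := by
    rw [← MonoidHom.ker_eq_bot_iff, eq_bot_iff]
    intro p hp
    obtain ⟨w, hw⟩ := hword p.1 p.2
    have hp2 : p.1.2 = 1 := hp
    rw [← hw, hf2] at hp2
    refine mem_bot.2 (Subtype.ext (Prod.ext ?_ hp))
    show p.1.1 = 1
    rw [← hw, hf1]
    exact hback w hp2
  have hc1 := Nat.card_le_card_of_surjective g1 h1surj
  have hc2 := Nat.card_le_card_of_injective g2 h2inj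
  rw [hcard] at hc1
  rw [card_PSU4] at hc2
  have h1bij : Function.Bijective g1 :=
    (Nat.bijective_iff_surjective_and_card g1).2 ⟨h1surj, by rw [hcard]; omega⟩
  have h2bij : Function.Bijective g2 :=
    (Nat.bijective_iff_injective_and_card g2).2 ⟨h2inj, by rw [card_PSU4]; omega⟩
  refine ⟨r, (MulEquiv.ofBijective g1 h1bij).symm.trans (MulEquiv.ofBijective g2 h2bij), fun w => ?_⟩
  have h : (MulEquiv.ofBijective g1 h1bij).symm (Coset.ev L' w) = ⟨Coset.ev LQ w, hevQ w⟩ := by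
    rw [MulEquiv.symm_apply_eq]
    exact (hf1 w).symm
  show g2 ((MulEquiv.ofBijective g1 h1bij).symm (Coset.ev L' w)) = pw w
  rw [h]
  exact hf2 w

set_option maxHeartbeats 1000000 in
/-- The map exists. -/
theorem exists_pi (T : Three D y) : ∃ π : cX y →* PSU4, Pi T π := by
  classical
  set Yc := zpowers y with hYc
  haveI hn : (Yc.subgroupOf (centralizer (Yc : Set G))).Normal := ⟨fun n hn g => by
    rw [mem_subgroupOf] at hn ⊢
    have hc := mem_centralizer_iff.1 g.2 _ hn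
    show (g : G) * n * (g : G)⁻¹ ∈ Yc
    rw [← hc, mul_inv_cancel_right]
    exact hn⟩
  obtain ⟨ψ, P, hmem, hzX, hPair⟩ := exists_pair T Yc rfl
  set N := Yc.subgroupOf (centralizer (Yc : Set G)) with hN
  set mk := QuotientGroup.mk' N with hmkd
  set φ := mk.comp (ψ.codRestrict _ hmem) with hφ
  have hmk : ∀ a b : cX y, mk a = mk b → ∃ e : Fin 3, (b : G) = a * y ^ e.val := by
    intro a b h
    have h' : a⁻¹ * b ∈ N := QuotientGroup.eq.1 h
    rw [hN, mem_subgroupOf] at h'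
    obtain ⟨e, he⟩ := mem_zpowers_three T h'
    exact ⟨e, by rw [← he]; simp⟩
  obtain ⟨φ', s, i, L⟩ := hPair.exists_loc
  obtain ⟨r, e, he⟩ := exists_iso L
  obtain ⟨hin, hall⟩ := range_le_of_pair hPair L
  have hev : ∀ w, mk ⟨z, hzX⟩ = Coset.ev (LX (φ' (a₀, 1)) (φ' (h₀, 1)) s i r) w → e (mk ⟨z, hzX⟩) = pw w :=
    fun w h => by rw [h, he]
  refine ⟨e.toMonoidHom.comp mk, ⟨e.surjective.comp (QuotientGroup.mk'_surjective N), fun x => ?_, ?_, ?_, ?_⟩⟩
  · show e (mk x) = 1 ↔ _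
    rw [e.map_eq_one_iff, hmkd, QuotientGroup.mk'_apply, QuotientGroup.eq_one_iff, hN, mem_subgroupOf]
  · refine ⟨hzX, 1, ?_⟩
    show e (mk ⟨z, hzX⟩) = _
    rw [one_mul, inv_one, mul_one]
    exact hev [0, 0] L.ev_z.symm
  · intro x hx hxx hx1
    have z128 : z ^ 128 = 1 := pow_Q D.pre.gen.mem
    have x128 : x ^ 128 = 1 := by rw [show 128 = 2 * 64 from rfl, pow_mul, pow_two, hxx, one_pow]
    have hne : mk ⟨x, hx⟩ ≠ 1 := by
      intro h
      obtain ⟨k, hk⟩ := hmk 1 ⟨x, hx⟩ (by rw [map_one]; exact h.symm)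
      exact hx1 (pow_two_part T x128 (one_pow _) (by simp) hk)
    obtain ⟨c, hc⟩ := isConj_iff.1 (L.cls (mk ⟨x, hx⟩) (mk ⟨z, hzX⟩) (orderOf_eq_prime (by
      rw [pow_two, ← map_mul, show (⟨x, hx⟩ : cX y) * ⟨x, hx⟩ = 1 from Subtype.ext hxx, map_one]) hne) L.P.zord)
    obtain ⟨c, rfl⟩ := QuotientGroup.mk'_surjective N c
    rw [← map_mul, ← map_inv, ← map_mul] at hc
    obtain ⟨k, hk⟩ := hmk _ _ hc.symm
    refine ⟨c, c.2, ?_⟩
    exact pow_two_part T (by rw [conj_pow, x128]; group) z128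
      ((show Commute z y from mem_cX.1 hzX).eq) (e := k.val) hk
  · intro g hgK hg3 hgY ⟨q, q', hq, hqK, hq', hq'K, gq, gq', hqq⟩
    have hgC : mk g ∈ centralizer ({mk ⟨z, hzX⟩} : Set _) := by
      rw [mem_centralizer_singleton_iff, ← map_mul, ← map_mul]
      exact congrArg mk (Subtype.ext (mem_centralizer_singleton_iff.1 ((mem_Kc T).1 hgK).1))
    obtain ⟨gp, hgp⟩ := hin (mk g) hgC (by
      rw [← map_pow, show g ^ 3 = 1 from Subtype.ext hg3, map_one])
    have hqm : ∀ q : G, q ∈ D.Q → q ∈ Kc T → ∃ hqX : q ∈ cX y, mk ⟨q, hqX⟩ ∈ φ'.range := by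
      intro q hq hqK
      obtain ⟨p, -, rfl⟩ := P.qsurj q hq hqK
      exact ⟨hmem p, hall p⟩
    obtain ⟨hqX, p, hp⟩ := hqm q hq hqK
    obtain ⟨hq'X, p', hp'⟩ := hqm q' hq' hq'K
    have hne : mk g ≠ 1 := by
      intro h
      rw [hmkd, QuotientGroup.mk'_apply, QuotientGroup.eq_one_iff, hN, mem_subgroupOf] at h
      exact hgY h
    obtain ⟨v, hv, hv'⟩ := L.P.one_factor gp
      (by rw [hgp, ← map_mul, ← map_mul]; exact (congrArg mk (Subtype.ext (by
        show (g : G) * g * g = 1; rw [← hg3, pow_succ, pow_two]))).trans (map_one mk))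
      p p' (by rw [hp, hgp, ← map_mul, ← map_mul]; exact congrArg mk (Subtype.ext gq.symm))
      (by rw [hp', hgp, ← map_mul, ← map_mul]; exact congrArg mk (Subtype.ext gq'.symm))
      (by
        rw [hp, hp', ← map_mul, ← map_mul]
        intro h
        obtain ⟨k, hk⟩ := hmk _ _ h
        refine hqq (pow_two_part T (pow_Q (mul_mem hq' hq)) (pow_Q (mul_mem hq hq')) ?_ (e := k.val) hk).symm
        exact ((show Commute q y from mem_cX.1 hqX).mul_left (show Commute q' y from mem_cX.1 hq'X)).eq)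
    have hv1 : v ≠ 1 := by
      rintro rfl
      refine hne (hgp ▸ ?_)
      rcases hv' with e' | e' <;> exact e'.trans (map_one φ')
    obtain ⟨M, hM⟩ := three_to_h v hv hv1
    have hconj : ∀ X : SL, φ' (M * X * M⁻¹, 1) = φ' (M, 1) * φ' (X, 1) * (φ' (M, 1))⁻¹ := fun X => by
      rw [← map_inv, ← map_mul, ← map_mul]; simp
    have hw2 : e (φ' (h₀, 1)) = pw [2] := by
      rw [← he [2], Coset.ev_cons, Coset.ev_nil, mul_one]; rfl
    have hw3 : e (φ' (h₀ * h₀, 1)) = pw [3] := by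
      have hinv : φ' (h₀ * h₀, 1) = (φ' (h₀, 1))⁻¹ := by
        refine eq_inv_of_mul_eq_one_left ?_
        rw [← map_mul]; simp [gens_facts.2.1, Prod.mk_one_one]
      rw [hinv, map_inv, hw2, ← show iW [2] = [3] from rfl, pw_iW]
    obtain ⟨c, hc⟩ : ∃ c, e (φ' (v, 1)) = c * pw [2] * c⁻¹ ∨ e (φ' (v, 1)) = c * pw [3] * c⁻¹ := by
      refine ⟨e (φ' (M, 1)), ?_⟩
      rcases hM with hM | hM
      · left; rw [← hM, hconj, map_mul, map_mul, map_inv, hw2]
      · right; rw [← hM, hconj, map_mul, map_mul, map_inv, hw3]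
    show ∃ d, e (mk g) = _ ∨ e (mk g) = _
    rw [← hgp]
    rcases hv' with e' | e'
    · exact ⟨c, by rw [e']; exact hc⟩
    · refine ⟨e s * c, ?_⟩
      rw [e', show φ' ((1 : SL), v) = s * φ' (v, 1) * s⁻¹ from (L.swap (v, 1)).symm, map_mul, map_mul, map_inv]
      refine hc.imp (fun h => ?_) fun h => ?_ <;> rw [h] <;> group

end CfsgLib.SuzEleven
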